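import Cfsg.Agent.Comp.Class
import Cfsg.Agent.Comp.Hom

/-! Order types: the number of solutions of `g ^ n = 1` is multiplicative and determines the order type;
certificates for enumerating, and for (non)solvability of, permutation groups on 20 points. -/

set_option autoImplicit false

namespace Cfsg.Agent.OT
open Cfsg.Agent.Comp

/-- a finite group whose solvability satisfies `p` and whose equation `g ^ n = 1` has `f n` solutions. -/
def Re (p : Prop → Prop) (f : ℕ → ℕ) : Prop :=
  ∃ (G : Type) (_ : Group G) (_ : Finite G), p (Group.IsSolvable G) ∧ ∀ n, Nat.card {g : G // g ^ n = 1} = f n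

theorem Re.mul {p q r : Prop → Prop} {f g : ℕ → ℕ} (h1 : Re p f) (h2 : Re q g)
    (h : ∀ a b, p a → q b → r (a ∧ b)) : Re r fun n => f n * g n := by
  obtain ⟨G, _, _, a1, a2⟩ := h1
  obtain ⟨H, _, _, b1, b2⟩ := h2
  refine ⟨G × H, inferInstance, inferInstance, ?_, fun n => ?_⟩
  · have e : Group.IsSolvable (G × H) = (Group.IsSolvable G ∧ Group.IsSolvable H) := propext
      ⟨fun _ => ⟨Group.isSolvable_of_surjective (f := MonoidHom.fst G H) Prod.fst_surjective,
        Group.isSolvable_of_surjective (f := MonoidHom.snd G H) Prod.snd_surjective⟩,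
        fun ⟨_, _⟩ => inferInstance⟩
    rw [e]; exact h _ _ a1 b1
  · show _ = f n * g n
    rw [← a2, ← b2, ← Nat.card_prod]
    refine Nat.card_congr ((Equiv.subtypeEquivRight fun x => ?_).trans (Equiv.subtypeProdEquivProd))
    rw [Prod.ext_iff]; rfl

theorem Re.congr {p : Prop → Prop} {f g : ℕ → ℕ} (h1 : Re p f) (h : ∀ n, f n = g n) : Re p g :=
  (funext h : f = g) ▸ h1

theorem card_pow_eq (G : Type) [Group G] [Finite G] {n : ℕ} (hn : n ≠ 0) :
    Nat.card {g : G // g ^ n = 1} = ∑ d ∈ n.divisors, Nat.card {g : G // orderOf g = d} := by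
  classical
  have := Fintype.ofFinite G
  simp only [Nat.card_eq_fintype_card, Fintype.card_subtype]
  rw [Finset.card_eq_sum_card_fiberwise (f := fun g : G => orderOf g) (t := n.divisors)]
  · refine Finset.sum_congr rfl fun d hd => congrArg _ ?_
    ext g
    simp only [Finset.mem_filter, Finset.mem_univ, true_and, and_iff_right_iff_imp]
    rintro rfl
    exact orderOf_dvd_iff_pow_eq_one.1 (Nat.dvd_of_mem_divisors hd)
  · intro g hg
    simp only [Finset.coe_filter, Finset.mem_univ, true_and, Set.mem_setOf_eq] at hg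
    exact Finset.mem_coe.2 (Nat.mem_divisors.2 ⟨orderOf_dvd_iff_pow_eq_one.2 hg, hn⟩)

theorem orderType (G H : Type) [Group G] [Finite G] [Group H] [Finite H]
    (h : ∀ n, Nat.card {g : G // g ^ n = 1} = Nat.card {g : H // g ^ n = 1}) (n : ℕ) :
    Nat.card {g : G // orderOf g = n} = Nat.card {g : H // orderOf g = n} := by
  induction n using Nat.strong_induction_on with
  | _ n ih =>
    rcases eq_or_ne n 0 with rfl | hn
    · haveI : IsEmpty {g : G // orderOf g = 0} := ⟨fun g => (orderOf_pos g.1).ne' g.2⟩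
      haveI : IsEmpty {g : H // orderOf g = 0} := ⟨fun g => (orderOf_pos g.1).ne' g.2⟩
      rw [Nat.card_of_isEmpty, Nat.card_of_isEmpty]
    · have := h n
      rw [card_pow_eq G hn, card_pow_eq H hn, ← Nat.insert_self_properDivisors hn,
        Finset.sum_insert Nat.self_notMem_properDivisors, Finset.sum_insert Nat.self_notMem_properDivisors,
        Finset.sum_congr rfl fun d hd => ih d (Nat.mem_properDivisors.1 hd).2] at this
      exact Nat.add_right_cancel this

section
variable {G : Type*} [Group G]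

theorem solv_step {K D : Subgroup G} (h : ⁅K, K⁆ ≤ D) [Group.IsSolvable D] : Group.IsSolvable K := by
  have h1 : ⁅K, K⁆ ≤ K := Subgroup.commutator_le.2 fun x hx y hy =>
    mul_mem (mul_mem (mul_mem hx hy) (inv_mem hx)) (inv_mem hy)
  haveI : Group.IsSolvable ↥⁅K, K⁆ :=
    Group.isSolvable_of_isSolvable_injective (Subgroup.inclusion_injective h)
  refine Group.isSolvable_of_ker_le_range (Subgroup.inclusion h1) (Abelianization.of) ?_
  rw [Abelianization.ker_of, Subgroup.inclusion_range]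
  intro x hx
  rw [Subgroup.mem_subgroupOf, ← Subgroup.map_subtype_commutator]
  exact ⟨x, hx, rfl⟩

theorem nonsolv {K D : Subgroup G} (h : D ≤ K) (hD : D ≤ ⁅D, D⁆) (hne : D ≠ ⊥) : ¬ Group.IsSolvable K := by
  rintro ⟨n, hn⟩
  have key : ∀ n, D ≤ (derivedSeries K n).map K.subtype := by
    intro n
    induction n with
    | zero => rw [derivedSeries_zero, ← MonoidHom.range_eq_map, Subgroup.range_subtype]; exact h
    | succ n ih =>
      rw [derivedSeries_succ, Subgroup.map_commutator]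
      exact hD.trans (Subgroup.commutator_mono ih ih)
  have := key n
  rw [hn, Subgroup.map_bot] at this
  exact hne (le_bot_iff.1 this)

theorem comm_le [Finite G] {S T : Set G} (h1 : ∀ a ∈ S, ∀ b ∈ S, a * b * a⁻¹ * b⁻¹ ∈ Subgroup.closure T)
    (h2 : ∀ a ∈ S, ∀ d ∈ T, a * d * a⁻¹ ∈ Subgroup.closure T) :
    ⁅Subgroup.closure S, Subgroup.closure S⁆ ≤ Subgroup.closure T := by
  have k0 : ∀ a ∈ S, ∀ d ∈ Subgroup.closure T, a * d * a⁻¹ ∈ Subgroup.closure T := by
    intro a ha d hd
    induction hd using Subgroup.closure_induction with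
    | mem x hx => exact h2 a ha x hx
    | one => simp
    | mul x y _ _ hx hy => convert mul_mem hx hy using 1; group
    | inv x _ hx => convert inv_mem hx using 1; group
  have ind : ∀ {P : G → Prop}, P 1 → (∀ x ∈ Subgroup.closure S, ∀ a ∈ S, P x → P (x * a)) →
      ∀ x ∈ Subgroup.closure S, P x := by
    intro P p1 p2 x hx
    have hx' := hx
    rw [← Subgroup.mem_toSubmonoid, Subgroup.closure_toSubmonoid_of_finite] at hx'
    induction hx' using Submonoid.closure_induction_right with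
    | one => exact p1
    | mul_right x hx0 y hy ih =>
      have : x ∈ Subgroup.closure S := by
        rwa [← Subgroup.mem_toSubmonoid, Subgroup.closure_toSubmonoid_of_finite]
      exact p2 x this y hy (ih this)
  have k1 : ∀ x ∈ Subgroup.closure S, ∀ d ∈ Subgroup.closure T, x * d * x⁻¹ ∈ Subgroup.closure T := by
    refine ind (by simp) fun x _ a ha ih d hd => ?_
    convert ih _ (k0 a ha d hd) using 1; group
  have k2 : ∀ a ∈ S, ∀ y ∈ Subgroup.closure S, a * y * a⁻¹ * y⁻¹ ∈ Subgroup.closure T := by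
    intro a ha
    refine ind (by simp) fun y hy b hb ih => ?_
    convert mul_mem ih (k1 y hy _ (h1 a ha b hb)) using 1; group
  rw [Subgroup.commutator_le]
  intro x hx y hy
  rw [commutatorElement_def]
  revert x
  refine ind (by simp) fun x hx a ha ih => ?_
  convert mul_mem (k1 x hx _ (k2 a ha y hy)) ih using 1; group

end

def mu (a b : ℕ) : ℕ := force a fun a => force b fun b => mulP 20 5 31 a b
def iv (a : ℕ) : ℕ := force a fun a => invP 20 5 31 a
def on : ℕ := 775628046757751184266453157920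

abbrev Pm := Equiv.Perm (Fin 20)

def R : ℕ → Pm → Prop := CRep (encFin 19) 5 31

theorem par : Par 20 5 31 := ⟨by decide, by decide⟩

theorem on_eq : oneP 20 5 = on := by decide +kernel

theorem hG : IsGrp R mu iv on :=
  have h := isGrp_CRep (G := Pm) (encFin 19) par
  ⟨fun _ _ _ _ a b => by rw [mu, force_eq, force_eq]; exact h.mul a b,
    fun _ _ a => by rw [iv, force_eq]; exact h.inv a, on_eq ▸ h.one⟩

theorem hC : IsCanon R := isCanon_CRep (G := Pm) (encFin 19) par

def K (γ : List ℕ) : Subgroup Pm := Subgroup.closure (genSet R γ)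

def good (γ : List ℕ) : Bool := allL γ fun c => band (isPermP 20 5 31 c) (Nat.blt c (Nat.pow 2 100))

theorem codes {γ : List ℕ} (h : good γ = true) : CodesIn R γ (K γ) := by
  intro c hc
  have := allL_iff.1 h c hc
  rw [band_eq, Bool.and_eq_true, nblt] at this
  have r : R c ((encFin 19).toPerm 5 31 c) := ⟨Enc.toPerm_rep _ this.1, this.2⟩
  exact ⟨_, Subgroup.subset_closure ⟨c, hc, r⟩, r⟩

def ev (γ w : List ℕ) : ℕ := evalW mu iv on γ w

/-- the code `c` is the value of one of the words `ws` in `δ`. -/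
def inW (δ : List ℕ) (ws : List (List ℕ)) (c : ℕ) : Bool := force c fun c => anyL ws fun w => Nat.beq (ev δ w) c

theorem inW_mem {δ : List ℕ} (h : good δ = true) {ws : List (List ℕ)} {c : ℕ} {g : Pm} (hc : R c g)
    (hw : inW δ ws c = true) : g ∈ K δ := by
  rw [inW, force_eq, anyL_iff] at hw
  obtain ⟨w, -, e⟩ := hw
  obtain ⟨x, x1, x2⟩ := hG.evalW_mem (codes h) w
  rw [nbeq, ev] at e
  rw [e] at x2
  exact hC.func hc x2 ▸ x1

def stepC (γ δ : List ℕ) (ws : List (List ℕ)) : Bool :=
  band (good δ) (allL γ fun a => band (allL γ fun b => inW δ ws (mu (mu (mu a b) (iv a)) (iv b)))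
    (allL δ fun d => inW δ ws (mu (mu a d) (iv a))))

theorem stepC_le {γ δ : List ℕ} {ws : List (List ℕ)} (h : stepC γ δ ws = true) : ⁅K γ, K γ⁆ ≤ K δ := by
  simp only [stepC, band_eq, Bool.and_eq_true, allL_iff] at h
  refine comm_le ?_ ?_
  · rintro a ⟨c, hc, r⟩ b ⟨d, hd, s⟩
    exact inW_mem h.1 (hG.mul (hG.mul (hG.mul r s) (hG.inv r)) (hG.inv s)) ((h.2 c hc).1 d hd)
  · rintro a ⟨c, hc, r⟩ b ⟨d, hd, s⟩
    exact inW_mem h.1 (hG.mul (hG.mul r s) (hG.inv r)) ((h.2 c hc).2 d hd)

def solvC (cs : List (List ℕ × List (List ℕ))) : List ℕ → Bool :=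
  List.rec (motive := fun _ => List ℕ → Bool) (fun γ => Nat.beq (lenL γ) 0)
    (fun c _ ih γ => band (stepC γ c.1 c.2) (ih c.1)) cs

theorem solvC_solv (cs : List (List ℕ × List (List ℕ))) :
    ∀ γ, solvC cs γ = true → Group.IsSolvable (K γ) := by
  induction cs with
  | nil =>
    intro γ h
    have h : Nat.beq (lenL γ) 0 = true := h
    rw [nbeq, lenL_eq, List.length_eq_zero_iff] at h
    subst h
    have : K [] = ⊥ := by simp [K, genSet]
    rw [this]; infer_instance
  | cons c cs ih =>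
    intro γ h
    have h : band (stepC γ c.1 c.2) (solvC cs c.1) = true := h
    rw [band_eq, Bool.and_eq_true] at h
    haveI := ih _ h.2
    exact solv_step (stepC_le h.1)

/-- `δ` lies in `K γ`, and each member of `δ` is a commutator of two words in `δ`. -/
def nsC (γ δ : List ℕ) (ws : List (List ℕ)) (us : List (List ℕ × List ℕ)) : Bool :=
  band (good γ) (band (good δ) (band (allL δ fun d => inW γ ws d) (band (anyL δ fun d => not (Nat.beq d on))
    (allL δ fun d => anyL us fun u => Nat.beq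
      (mu (mu (mu (ev δ u.1) (ev δ u.2)) (iv (ev δ u.1))) (iv (ev δ u.2))) d))))

theorem nsC_ns {γ δ : List ℕ} {ws : List (List ℕ)} {us : List (List ℕ × List ℕ)} (h : nsC γ δ ws us = true) :
    ¬ Group.IsSolvable (K γ) := by
  simp only [nsC, band_eq, Bool.and_eq_true, allL_iff, anyL_iff, nbeq, Bool.not_eq_true', nbeq_false] at h
  obtain ⟨h1, h2, h3, ⟨d, hd, h4⟩, h5⟩ := h
  refine nonsolv (D := K δ) ?_ ?_ ?_
  · rw [K, Subgroup.closure_le]
    rintro a ⟨c, hc, r⟩
    exact inW_mem h1 r (h3 c hc)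
  · rw [K, Subgroup.closure_le]
    rintro a ⟨c, hc, r⟩
    obtain ⟨u, -, e⟩ := h5 c hc
    obtain ⟨x, x1, x2⟩ := hG.evalW_mem (codes h2) u.1
    obtain ⟨y, y1, y2⟩ := hG.evalW_mem (codes h2) u.2
    have := hG.mul (hG.mul (hG.mul x2 y2) (hG.inv x2)) (hG.inv y2)
    rw [ev, ev] at e
    rw [e] at this
    rw [hC.func r this]
    exact Subgroup.commutator_mem_commutator x1 y1
  · obtain ⟨g, g1, g2⟩ := codes h2 d hd
    intro e
    rw [e, Subgroup.mem_bot] at g1
    subst g1
    exact h4 (hC.canon g2 hG.one)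

def ordOK (c k : ℕ) : Bool :=
  band (Nat.beq (Nat.mod 168 k) 0) (orderC mu on c k (filterL (fun p => Nat.beq (Nat.mod k p) 0) [2, 3, 7]))

theorem ordOK_eq {c k : ℕ} {g : Pm} (r : R c g) (h : ordOK c k = true) : k ∣ 168 ∧ orderOf g = k := by
  rw [ordOK, band_eq, Bool.and_eq_true, nbeq] at h
  have hk : k ∣ 168 := Nat.dvd_of_mod_eq_zero h.1
  refine ⟨hk, hG.orderOf_eq hC r (Nat.pos_of_dvd_of_pos hk (by norm_num)) (fun p hp hd => ?_) h.2⟩
  rw [filterL_eq, List.mem_filter, nbeq]
  refine ⟨?_, Nat.mod_eq_zero_of_dvd hd⟩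
  have h1 : p ∣ 2 ^ 3 * 3 * 7 := hd.trans hk
  rcases (hp.dvd_mul).1 h1 with h2 | h2
  · rcases (hp.dvd_mul).1 h2 with h3 | h3
    · simp [(Nat.prime_dvd_prime_iff_eq hp Nat.prime_two).1 (hp.dvd_of_dvd_pow h3)]
    · simp [(Nat.prime_dvd_prime_iff_eq hp Nat.prime_three).1 h3]
  · simp [(Nat.prime_dvd_prime_iff_eq hp (by norm_num)).1 h2]

/-- the words of `d` list `K γ` without repetition, with the orders of the elements. -/
def enumC (γ : List ℕ) (d : List (List ℕ × ℕ)) : Bool :=
  band (good γ) (forceL (mapL (fun x => ev γ x.1) d) fun ℓ => band (memL on ℓ) (band (nodupL ℓ)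
    (band (allL ℓ fun c => allL γ fun e => force (mu c e) fun x => memL x ℓ)
      (allL d fun x => force (ev γ x.1) fun c => ordOK c x.2))))

def cnt (d : List (List ℕ × ℕ)) (n : ℕ) : ℕ := countL (fun x => Nat.beq (Nat.mod n x.2) 0) d

theorem enumC_card {γ : List ℕ} {d : List (List ℕ × ℕ)} (h : enumC γ d = true) (n : ℕ) :
    Nat.card {g : K γ // g ^ n = 1} = cnt d (Nat.gcd n 168) := by
  simp only [enumC, band_eq, Bool.and_eq_true, allL_iff, forceL_eq, force_eq, memL_iff, nodupL_iff,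
    mapL_eq] at h
  obtain ⟨h0, h1, h2, h3, h4⟩ := h
  have k1 : ∀ g ∈ K γ, ∃ c ∈ d.map fun x => ev γ x.1, R c g := by
    intro g hg
    rw [K, ← Subgroup.mem_toSubmonoid, Subgroup.closure_toSubmonoid_of_finite] at hg
    induction hg using Submonoid.closure_induction_right with
    | one => exact ⟨_, h1, hG.one⟩
    | mul_right x _ y hy ih =>
      obtain ⟨c, c1, c2⟩ := ih
      obtain ⟨e, e1, e2⟩ := hy
      exact ⟨_, h3 c c1 e e1, hG.mul c2 e2⟩
  choose f f1 f2 using fun x : List ℕ × ℕ => hG.evalW_mem (codes h0) x.1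
  have hinj : ∀ x ∈ d, ∀ y ∈ d, f x = f y → x = y := fun x hx y hy e =>
    List.inj_on_of_nodup_map h2 hx hy (hC.canon (f2 x) (e ▸ f2 y))
  classical
  have hn : d.Nodup := h2.of_map _
  rw [cnt, countL_eq, List.countP_eq_length_filter, ← List.toFinset_card_of_nodup (hn.filter _),
    ← Nat.card_eq_finsetCard]
  have key : ∀ x ∈ d, (f x ^ n = 1 ↔ Nat.beq (Nat.mod (Nat.gcd n 168) x.2) 0 = true) := by
    intro x hx
    obtain ⟨o1, o2⟩ := ordOK_eq (f2 x) (h4 x hx)
    rw [nbeq, ← orderOf_dvd_iff_pow_eq_one, o2]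
    exact ⟨fun h => Nat.mod_eq_zero_of_dvd (Nat.dvd_gcd h o1),
      fun h => (Nat.dvd_of_mod_eq_zero h).trans (Nat.gcd_dvd_left _ _)⟩
  symm
  have m := fun x : {x // x ∈ (d.filter fun x => Nat.beq (Nat.mod (Nat.gcd n 168) x.2) 0).toFinset} =>
    List.mem_filter.1 (List.mem_toFinset.1 x.2)
  refine Nat.card_congr (Equiv.ofBijective (fun x => ⟨⟨f x.1, f1 x.1⟩, Subtype.ext ((key x.1
    (m x).1).2 (m x).2)⟩) ⟨fun x y e => Subtype.ext
      (hinj _ (m x).1 _ (m y).1 (congrArg (fun z => z.1.1) e)), ?_⟩)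
  rintro ⟨⟨g, hg⟩, e⟩
  obtain ⟨c, c1, c2⟩ := k1 g hg
  obtain ⟨x, x1, rfl⟩ := List.mem_map.1 c1
  obtain rfl := hC.func c2 (f2 x)
  exact ⟨⟨x, List.mem_toFinset.2 (List.mem_filter.2 ⟨x1, (key x x1).1 (congrArg Subtype.val e)⟩)⟩, rfl⟩

theorem reOf {p : Prop → Prop} {γ : List ℕ} {d : List (List ℕ × ℕ)} (h : enumC γ d = true)
    (hp : p (Group.IsSolvable (K γ))) : Re p fun n => cnt d (Nat.gcd n 168) :=
  ⟨K γ, inferInstance, inferInstance, hp, enumC_card h⟩

end Cfsg.Agent.OT
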