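import Cfsg.Agent.OT.A

set_option autoImplicit false
set_option maxRecDepth 100000
set_option Elab.async false

namespace Cfsg.Agent.OT
open Cfsg.Agent.Comp

def γP : List ℕ := [775628046757751184260045343809, 775628046757751184020533742791, 775628046757751184264172476512]

def dP : List (List ℕ × ℕ) := [
  ([], 1), ([0], 7), ([2], 2), ([4], 6), ([0, 0], 7), ([0, 2], 3), ([0, 4], 6), ([2, 0], 3), ([2, 4], 2),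
  ([4, 0], 6), ([4, 2], 2), ([4, 4], 3), ([0, 0, 0], 7), ([0, 0, 2], 7), ([0, 0, 4], 6), ([0, 2, 0], 7),
  ([0, 2, 4], 6), ([0, 4, 0], 6), ([0, 4, 2], 8), ([0, 4, 4], 3), ([2, 0, 0], 7), ([2, 0, 2], 7), ([2, 0, 4], 8),
  ([2, 4, 0], 6), ([2, 4, 2], 6), ([2, 4, 4], 2), ([4, 0, 0], 6), ([4, 0, 2], 6), ([4, 0, 4], 3), ([4, 2, 0], 8),
  ([4, 4, 0], 3), ([4, 4, 2], 2), ([4, 4, 4], 2), ([0, 0, 0, 0], 7), ([0, 0, 0, 2], 4), ([0, 0, 2, 0], 4),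
  ([0, 0, 2, 4], 8), ([0, 0, 4, 0], 6), ([0, 0, 4, 2], 8), ([0, 2, 0, 0], 4), ([0, 2, 0, 2], 3),
  ([0, 2, 0, 4], 6), ([0, 2, 4, 0], 8), ([0, 2, 4, 2], 6), ([0, 2, 4, 4], 4), ([0, 4, 0, 2], 6),
  ([0, 4, 0, 4], 3), ([0, 4, 2, 0], 8), ([0, 4, 4, 2], 7), ([0, 4, 4, 4], 2), ([2, 0, 0, 0], 4),
  ([2, 0, 0, 2], 7), ([2, 0, 0, 4], 8), ([2, 0, 2, 0], 3), ([2, 0, 2, 4], 6), ([2, 0, 4, 0], 6),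
  ([2, 0, 4, 2], 6), ([2, 0, 4, 4], 7), ([2, 4, 0, 0], 8), ([2, 4, 0, 2], 6), ([2, 4, 0, 4], 3),
  ([2, 4, 2, 0], 6), ([2, 4, 4, 0], 4), ([2, 4, 4, 2], 3), ([2, 4, 4, 4], 2), ([4, 0, 0, 2], 8),
  ([4, 0, 0, 4], 3), ([4, 0, 2, 0], 6), ([4, 0, 4, 0], 3), ([4, 0, 4, 2], 3), ([4, 0, 4, 4], 2),
  ([4, 2, 0, 0], 8), ([4, 2, 0, 2], 6), ([4, 2, 0, 4], 7), ([4, 4, 0, 2], 4), ([4, 4, 0, 4], 2),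
  ([4, 4, 2, 0], 7), ([4, 4, 4, 0], 2), ([0, 0, 0, 0, 0], 7), ([0, 0, 0, 0, 2], 4), ([0, 0, 0, 2, 0], 4),
  ([0, 0, 0, 2, 4], 8), ([0, 0, 2, 0, 0], 4), ([0, 0, 2, 0, 2], 2), ([0, 0, 2, 0, 4], 2), ([0, 0, 2, 4, 0], 8),
  ([0, 0, 2, 4, 2], 6), ([0, 0, 2, 4, 4], 3), ([0, 0, 4, 0, 2], 8), ([0, 0, 4, 2, 0], 6), ([0, 2, 0, 0, 0], 4),
  ([0, 2, 0, 0, 2], 2), ([0, 2, 0, 0, 4], 8), ([0, 2, 0, 4, 0], 2), ([0, 2, 0, 4, 2], 6), ([0, 2, 0, 4, 4], 3),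
  ([0, 2, 4, 0, 0], 8), ([0, 2, 4, 0, 2], 8), ([0, 2, 4, 0, 4], 4), ([0, 2, 4, 2, 0], 6), ([0, 2, 4, 4, 0], 3),
  ([0, 2, 4, 4, 2], 3), ([0, 2, 4, 4, 4], 8), ([0, 4, 0, 2, 0], 8), ([0, 4, 0, 4, 2], 3), ([0, 4, 0, 4, 4], 2),
  ([0, 4, 2, 0, 0], 6), ([0, 4, 2, 0, 2], 6), ([0, 4, 2, 0, 4], 3), ([0, 4, 4, 2, 0], 4), ([2, 0, 0, 0, 0], 4),
  ([2, 0, 0, 0, 2], 7), ([2, 0, 0, 2, 0], 2), ([2, 0, 0, 4, 0], 8), ([2, 0, 0, 4, 2], 6), ([2, 0, 2, 0, 0], 2),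
  ([2, 0, 2, 0, 2], 7), ([2, 0, 2, 0, 4], 6), ([2, 0, 2, 4, 0], 8), ([2, 0, 2, 4, 2], 6), ([2, 0, 2, 4, 4], 3),
  ([2, 0, 4, 0, 2], 6), ([2, 0, 4, 0, 4], 3), ([2, 0, 4, 2, 0], 6), ([2, 0, 4, 4, 2], 3), ([2, 0, 4, 4, 4], 8),
  ([2, 4, 0, 0, 2], 6), ([2, 4, 0, 0, 4], 7), ([2, 4, 0, 4, 0], 4), ([2, 4, 0, 4, 2], 3), ([2, 4, 0, 4, 4], 8),
  ([2, 4, 2, 0, 0], 6), ([2, 4, 2, 0, 2], 8), ([2, 4, 4, 0, 2], 3), ([2, 4, 4, 0, 4], 6), ([2, 4, 4, 2, 0], 3),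
  ([2, 4, 4, 4, 0], 8), ([4, 0, 0, 2, 0], 2), ([4, 0, 0, 4, 2], 7), ([4, 0, 2, 0, 0], 8), ([4, 0, 2, 0, 2], 8),
  ([4, 0, 2, 0, 4], 3), ([4, 0, 4, 0, 2], 4), ([4, 0, 4, 0, 4], 2), ([4, 0, 4, 2, 0], 3), ([4, 0, 4, 4, 2], 8),
  ([4, 0, 4, 4, 4], 3), ([4, 2, 0, 0, 2], 6), ([4, 2, 0, 2, 4], 3), ([4, 2, 0, 4, 2], 7), ([4, 4, 0, 2, 0], 3),
  ([4, 4, 0, 4, 2], 6), ([4, 4, 0, 4, 4], 3), ([4, 4, 2, 0, 0], 4), ([4, 4, 2, 0, 2], 3), ([4, 4, 2, 0, 4], 8),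
  ([4, 4, 4, 0, 2], 8), ([4, 4, 4, 0, 4], 3), ([0, 0, 0, 0, 0, 2], 7), ([0, 0, 0, 0, 2, 0], 7),
  ([0, 0, 0, 0, 2, 4], 8), ([0, 0, 0, 2, 0, 0], 7), ([0, 0, 0, 2, 0, 2], 3), ([0, 0, 0, 2, 0, 4], 6),
  ([0, 0, 0, 2, 4, 0], 8), ([0, 0, 0, 2, 4, 4], 7), ([0, 0, 2, 0, 0, 0], 7), ([0, 0, 2, 0, 0, 2], 7),
  ([0, 0, 2, 0, 0, 4], 8), ([0, 0, 2, 0, 4, 2], 8), ([0, 0, 2, 0, 4, 4], 4), ([0, 0, 2, 4, 0, 0], 8),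
  ([0, 0, 2, 4, 0, 2], 8), ([0, 0, 2, 4, 0, 4], 2), ([0, 0, 2, 4, 4, 0], 7), ([0, 0, 4, 0, 2, 0], 8),
  ([0, 0, 4, 2, 0, 0], 6), ([0, 0, 4, 2, 0, 2], 8), ([0, 0, 4, 2, 0, 4], 2), ([0, 2, 0, 0, 0, 0], 7),
  ([0, 2, 0, 0, 0, 2], 3), ([0, 2, 0, 0, 4, 0], 8), ([0, 2, 0, 0, 4, 2], 8), ([0, 2, 0, 4, 0, 2], 2),
  ([0, 2, 0, 4, 0, 4], 7), ([0, 2, 0, 4, 4, 2], 4), ([0, 2, 0, 4, 4, 4], 2), ([0, 2, 4, 0, 0, 2], 8),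
  ([0, 2, 4, 0, 0, 4], 7), ([0, 2, 4, 0, 4, 0], 2), ([0, 2, 4, 0, 4, 2], 2), ([0, 2, 4, 0, 4, 4], 6),
  ([0, 2, 4, 2, 0, 0], 6), ([0, 2, 4, 4, 0, 2], 7), ([0, 2, 4, 4, 0, 4], 8), ([0, 2, 4, 4, 2, 0], 3),
  ([0, 2, 4, 4, 4, 0], 6), ([0, 4, 0, 2, 0, 0], 8), ([0, 4, 0, 2, 0, 2], 2), ([0, 4, 0, 2, 0, 4], 7),
  ([0, 4, 0, 4, 2, 0], 4), ([0, 4, 0, 4, 4, 2], 8), ([0, 4, 2, 0, 0, 2], 8), ([0, 4, 2, 0, 2, 4], 2),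
  ([0, 4, 2, 0, 4, 2], 4), ([0, 4, 4, 2, 0, 0], 3), ([0, 4, 4, 2, 0, 2], 4), ([0, 4, 4, 2, 0, 4], 8),
  ([2, 0, 0, 0, 0, 2], 7), ([2, 0, 0, 0, 2, 0], 3), ([2, 0, 0, 2, 0, 0], 7), ([2, 0, 0, 2, 0, 2], 4),
  ([2, 0, 0, 2, 0, 4], 8), ([2, 0, 0, 4, 0, 2], 6), ([2, 0, 2, 0, 0, 0], 3), ([2, 0, 2, 0, 0, 2], 4),
  ([2, 0, 2, 0, 0, 4], 8), ([2, 0, 2, 0, 4, 4], 4), ([2, 0, 2, 4, 0, 0], 8), ([2, 0, 2, 4, 0, 2], 8),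
  ([2, 0, 2, 4, 0, 4], 2), ([2, 0, 2, 4, 4, 0], 7), ([2, 0, 2, 4, 4, 4], 2), ([2, 0, 4, 0, 2, 0], 2),
  ([2, 0, 4, 0, 4, 2], 3), ([2, 0, 4, 0, 4, 4], 8), ([2, 0, 4, 2, 0, 2], 8), ([2, 0, 4, 2, 0, 4], 4),
  ([2, 4, 0, 4, 0, 2], 3), ([2, 4, 0, 4, 0, 4], 6), ([2, 4, 0, 4, 4, 2], 2), ([2, 4, 0, 4, 4, 4], 7),
  ([2, 4, 2, 0, 2, 4], 3), ([2, 4, 4, 0, 4, 2], 2), ([2, 4, 4, 0, 4, 4], 3), ([2, 4, 4, 2, 0, 2], 7),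
  ([4, 0, 0, 2, 0, 0], 8), ([4, 0, 0, 4, 2, 0], 2), ([4, 0, 2, 0, 0, 0], 8), ([4, 0, 2, 0, 0, 2], 8),
  ([4, 0, 2, 0, 0, 4], 3), ([4, 0, 2, 0, 4, 0], 7), ([4, 0, 4, 0, 2, 0], 7), ([4, 0, 4, 0, 4, 2], 6),
  ([4, 0, 4, 2, 0, 0], 4), ([4, 0, 4, 2, 0, 2], 2), ([4, 0, 4, 2, 0, 4], 8), ([4, 0, 4, 4, 2, 0], 8),
  ([4, 2, 0, 0, 2, 0], 8), ([4, 2, 0, 2, 4, 0], 2), ([4, 2, 0, 2, 4, 2], 3), ([4, 2, 0, 2, 4, 4], 2),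
  ([4, 2, 0, 4, 2, 0], 4), ([4, 4, 0, 2, 0, 0], 3), ([4, 4, 0, 4, 2, 0], 8), ([4, 4, 2, 0, 2, 4], 2),
  ([4, 4, 2, 0, 4, 2], 6), ([0, 0, 0, 0, 0, 2, 0], 3), ([0, 0, 0, 0, 2, 0, 4], 8), ([0, 0, 0, 0, 2, 4, 0], 8),
  ([0, 0, 0, 2, 0, 0, 2], 4), ([0, 0, 0, 2, 0, 0, 4], 6), ([0, 0, 0, 2, 0, 4, 2], 8), ([0, 0, 0, 2, 0, 4, 4], 2),
  ([0, 0, 0, 2, 4, 0, 0], 8), ([0, 0, 0, 2, 4, 0, 2], 8), ([0, 0, 0, 2, 4, 0, 4], 4), ([0, 0, 0, 2, 4, 4, 0], 7),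
  ([0, 0, 2, 0, 0, 0, 2], 4), ([0, 0, 2, 0, 0, 4, 0], 6), ([0, 0, 2, 0, 0, 4, 2], 2), ([0, 0, 2, 0, 4, 4, 2], 7),
  ([0, 0, 2, 0, 4, 4, 4], 8), ([0, 0, 2, 4, 0, 4, 0], 4), ([0, 0, 2, 4, 0, 4, 2], 3), ([0, 0, 2, 4, 4, 0, 2], 7),
  ([0, 0, 2, 4, 4, 0, 4], 2), ([0, 0, 4, 0, 2, 0, 2], 8), ([0, 0, 4, 0, 2, 0, 4], 4), ([0, 0, 4, 2, 0, 0, 2], 2),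
  ([0, 0, 4, 2, 0, 4, 2], 3), ([0, 2, 0, 0, 0, 0, 2], 7), ([0, 2, 0, 0, 0, 2, 0], 4), ([0, 2, 0, 0, 4, 0, 2], 8),
  ([0, 2, 0, 4, 0, 4, 2], 7), ([0, 2, 0, 4, 0, 4, 4], 8), ([0, 2, 4, 0, 4, 0, 2], 4), ([0, 2, 4, 0, 4, 0, 4], 8),
  ([0, 2, 4, 4, 0, 4, 2], 6), ([0, 2, 4, 4, 0, 4, 4], 4), ([0, 4, 0, 2, 0, 0, 0], 2), ([0, 4, 0, 2, 0, 0, 2], 6),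
  ([0, 4, 0, 2, 0, 4, 0], 4), ([0, 4, 0, 4, 2, 0, 0], 7), ([0, 4, 0, 4, 2, 0, 2], 7), ([0, 4, 0, 4, 2, 0, 4], 8),
  ([0, 4, 0, 4, 4, 2, 0], 6), ([0, 4, 2, 0, 0, 2, 0], 2), ([0, 4, 2, 0, 2, 4, 2], 3), ([0, 4, 2, 0, 2, 4, 4], 6),
  ([0, 4, 2, 0, 4, 2, 0], 3), ([0, 4, 4, 2, 0, 4, 2], 8), ([2, 0, 0, 2, 0, 0, 0], 4), ([2, 0, 0, 2, 0, 0, 2], 4),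
  ([2, 0, 0, 2, 0, 0, 4], 2), ([2, 0, 0, 4, 0, 2, 0], 8), ([2, 0, 2, 0, 0, 0, 2], 4), ([2, 0, 2, 0, 0, 4, 0], 8),
  ([2, 0, 2, 0, 0, 4, 2], 8), ([2, 0, 2, 4, 0, 0, 2], 8), ([2, 0, 2, 4, 0, 0, 4], 3), ([2, 0, 2, 4, 0, 4, 0], 4),
  ([2, 0, 2, 4, 0, 4, 4], 8), ([2, 0, 2, 4, 4, 0, 4], 6), ([2, 0, 2, 4, 4, 4, 0], 8), ([2, 0, 4, 0, 2, 0, 2], 8),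
  ([2, 0, 4, 0, 2, 0, 4], 4), ([2, 0, 4, 0, 4, 2, 0], 7), ([2, 0, 4, 2, 0, 2, 4], 3), ([2, 0, 4, 2, 0, 4, 2], 3),
  ([4, 0, 0, 4, 2, 0, 0], 7), ([4, 0, 2, 0, 0, 4, 2], 2), ([4, 0, 4, 0, 2, 0, 0], 2), ([4, 0, 4, 0, 2, 0, 4], 6),
  ([4, 0, 4, 0, 4, 2, 0], 8), ([4, 2, 0, 4, 2, 0, 2], 3), ([4, 2, 0, 4, 2, 0, 4], 8), ([4, 4, 0, 4, 2, 0, 2], 6),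
  ([4, 4, 0, 4, 2, 0, 4], 2), ([4, 4, 2, 0, 2, 4, 0], 8), ([0, 0, 0, 0, 0, 2, 0, 4], 8),
  ([0, 0, 0, 0, 2, 4, 0, 0], 6), ([0, 0, 2, 0, 0, 0, 2, 0], 2), ([0, 0, 2, 4, 4, 0, 4, 2], 8),
  ([0, 0, 2, 4, 4, 0, 4, 4], 7), ([0, 2, 0, 0, 4, 0, 2, 0], 8)]

theorem eP : enumC γP dP = true := by decide +kernel

theorem nP : nsC γP [775628046757751184260045343809, 775628046757751184020533742791] [[0], [2]] [([1, 1, 1, 2], [0, 0, 2, 0]), ([0, 0, 0, 2, 1, 1], [0, 0, 0, 2, 1, 1, 2])] = true := by decide +kernel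

def γH0 : List ℕ := [775628046757751184266453157889]

def dH0 : List (List ℕ × ℕ) := [
  ([], 1), ([0], 2)]

theorem eH0 : enumC γH0 dH0 = true := by decide +kernel

def γH1 : List ℕ := [775628046757751184266453090402, 775628046757751184266453060642]

def dH1 : List (List ℕ × ℕ) := [
  ([], 1), ([0], 2), ([2], 3), ([0, 2], 3), ([2, 0], 3), ([2, 2], 3), ([0, 2, 0], 3), ([0, 2, 2], 3),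
  ([2, 0, 2], 3), ([2, 2, 0], 3), ([2, 0, 2, 2], 2), ([2, 2, 0, 2], 2)]

theorem eH1 : enumC γH1 dH1 = true := by decide +kernel

def γH2 : List ℕ := [775628046757751184264340277280, 775628046757751184265412936707]

def dH2 : List (List ℕ × ℕ) := [
  ([], 1), ([0], 3), ([2], 4), ([0, 0], 3), ([0, 2], 4), ([2, 0], 4), ([2, 2], 2), ([0, 2, 2], 6),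
  ([2, 0, 2], 6), ([2, 2, 2], 4), ([0, 2, 2, 2], 4), ([2, 0, 2, 2], 4)]

theorem eH2 : enumC γH2 dH2 = true := by decide +kernel

def γH3 : List ℕ := [775628046757751184264136951969, 775628046757751184262155075686]

def dH3 : List (List ℕ × ℕ) := [
  ([], 1), ([0], 3), ([2], 3), ([0, 0], 3), ([0, 2], 3), ([2, 0], 3), ([2, 2], 3), ([0, 0, 2], 7),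
  ([0, 2, 0], 7), ([0, 2, 2], 7), ([2, 0, 0], 7), ([2, 0, 2], 7), ([2, 2, 0], 7), ([0, 0, 2, 0], 3),
  ([0, 0, 2, 2], 3), ([0, 2, 0, 0], 3), ([0, 2, 0, 2], 3), ([0, 2, 2, 0], 3), ([0, 0, 2, 0, 0], 3),
  ([0, 0, 2, 0, 2], 3), ([0, 0, 2, 2, 0], 3)]

theorem eH3 : enumC γH3 dH3 = true := by decide +kernel

def γH4 : List ℕ := [775628046757750022047201855520, 775628046757746610371063514115]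

def dH4 : List (List ℕ × ℕ) := [
  ([], 1), ([0], 7), ([2], 4), ([0, 0], 7), ([0, 2], 4), ([2, 0], 4), ([2, 2], 2), ([0, 0, 0], 7),
  ([0, 0, 2], 4), ([0, 2, 2], 14), ([2, 0, 0], 4), ([2, 0, 2], 14), ([2, 2, 2], 4), ([0, 0, 0, 0], 7),
  ([0, 0, 0, 2], 4), ([0, 0, 2, 2], 14), ([0, 2, 2, 2], 4), ([2, 0, 0, 0], 4), ([2, 0, 0, 2], 14),
  ([2, 0, 2, 2], 4), ([0, 0, 0, 0, 0], 7), ([0, 0, 0, 2, 2], 14), ([0, 0, 2, 2, 2], 4), ([2, 0, 0, 0, 2], 14),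
  ([2, 0, 0, 2, 2], 4), ([2, 0, 2, 2, 2], 7), ([0, 0, 0, 2, 2, 2], 4), ([2, 0, 0, 0, 2, 2], 4)]

theorem eH4 : enumC γH4 dH4 = true := by decide +kernel

def γH5 : List ℕ := [775628046532823513530508679169, 775628045425011015969097714821]

def dH5 : List (List ℕ × ℕ) := [
  ([], 1), ([0], 2), ([2], 8), ([0, 2], 28), ([2, 0], 28), ([2, 2], 4), ([0, 2, 0], 8), ([0, 2, 2], 2),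
  ([2, 0, 2], 2), ([2, 2, 0], 2), ([2, 2, 2], 8), ([0, 2, 0, 2], 14), ([0, 2, 2, 0], 4), ([0, 2, 2, 2], 28),
  ([2, 0, 2, 0], 14), ([2, 0, 2, 2], 28), ([2, 2, 0, 2], 28), ([2, 2, 2, 0], 28), ([2, 2, 2, 2], 2),
  ([0, 2, 0, 2, 0], 2), ([0, 2, 0, 2, 2], 8), ([0, 2, 2, 0, 2], 8), ([0, 2, 2, 2, 0], 8), ([0, 2, 2, 2, 2], 2),
  ([2, 0, 2, 0, 2], 8), ([2, 0, 2, 2, 2], 2), ([2, 2, 2, 0, 2], 2), ([2, 2, 2, 2, 2], 8),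
  ([0, 2, 0, 2, 0, 2], 28), ([0, 2, 0, 2, 2, 2], 28), ([0, 2, 2, 2, 0, 2], 28), ([0, 2, 2, 2, 2, 2], 28),
  ([2, 0, 2, 0, 2, 0], 28), ([2, 0, 2, 0, 2, 2], 28), ([2, 0, 2, 2, 2, 0], 28), ([2, 0, 2, 2, 2, 2], 28),
  ([0, 2, 0, 2, 0, 2, 0], 8), ([0, 2, 0, 2, 0, 2, 2], 2), ([0, 2, 0, 2, 2, 2, 0], 2), ([0, 2, 0, 2, 2, 2, 2], 8),
  ([2, 0, 2, 0, 2, 0, 2], 2), ([2, 0, 2, 0, 2, 2, 2], 8), ([2, 0, 2, 2, 2, 0, 2], 8), ([2, 0, 2, 2, 2, 2, 2], 2),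
  ([0, 2, 0, 2, 0, 2, 0, 2], 7), ([0, 2, 0, 2, 0, 2, 2, 2], 28), ([0, 2, 0, 2, 2, 2, 0, 2], 28),
  ([0, 2, 0, 2, 2, 2, 2, 2], 7), ([2, 0, 2, 0, 2, 0, 2, 0], 7), ([2, 0, 2, 0, 2, 0, 2, 2], 28),
  ([2, 0, 2, 0, 2, 2, 2, 0], 28), ([2, 0, 2, 0, 2, 2, 2, 2], 7), ([0, 2, 0, 2, 0, 2, 0, 2, 0], 2),
  ([0, 2, 0, 2, 0, 2, 0, 2, 2], 8), ([0, 2, 0, 2, 0, 2, 2, 2, 0], 8), ([0, 2, 0, 2, 0, 2, 2, 2, 2], 2),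
  ([2, 0, 2, 0, 2, 0, 2, 0, 2], 8), ([2, 0, 2, 0, 2, 0, 2, 2, 2], 2), ([2, 0, 2, 0, 2, 2, 2, 0, 2], 2),
  ([2, 0, 2, 0, 2, 2, 2, 2, 2], 8), ([0, 2, 0, 2, 0, 2, 0, 2, 0, 2], 28), ([0, 2, 0, 2, 0, 2, 0, 2, 2, 2], 28),
  ([0, 2, 0, 2, 0, 2, 2, 2, 0, 2], 28), ([0, 2, 0, 2, 0, 2, 2, 2, 2, 2], 28),
  ([2, 0, 2, 0, 2, 0, 2, 0, 2, 0], 28), ([2, 0, 2, 0, 2, 0, 2, 0, 2, 2], 28),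
  ([2, 0, 2, 0, 2, 0, 2, 2, 2, 0], 28), ([2, 0, 2, 0, 2, 0, 2, 2, 2, 2], 28),
  ([0, 2, 0, 2, 0, 2, 0, 2, 0, 2, 0], 8), ([0, 2, 0, 2, 0, 2, 0, 2, 0, 2, 2], 2),
  ([0, 2, 0, 2, 0, 2, 0, 2, 2, 2, 0], 2), ([0, 2, 0, 2, 0, 2, 0, 2, 2, 2, 2], 8),
  ([2, 0, 2, 0, 2, 0, 2, 0, 2, 0, 2], 2), ([2, 0, 2, 0, 2, 0, 2, 0, 2, 2, 2], 8),
  ([2, 0, 2, 0, 2, 0, 2, 2, 2, 0, 2], 8), ([2, 0, 2, 0, 2, 0, 2, 2, 2, 2, 2], 2),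
  ([0, 2, 0, 2, 0, 2, 0, 2, 0, 2, 0, 2], 14), ([0, 2, 0, 2, 0, 2, 0, 2, 0, 2, 2, 2], 28),
  ([0, 2, 0, 2, 0, 2, 0, 2, 2, 2, 0, 2], 28), ([0, 2, 0, 2, 0, 2, 0, 2, 2, 2, 2, 2], 14),
  ([2, 0, 2, 0, 2, 0, 2, 0, 2, 0, 2, 0], 14), ([2, 0, 2, 0, 2, 0, 2, 0, 2, 0, 2, 2], 28),
  ([2, 0, 2, 0, 2, 0, 2, 0, 2, 2, 2, 0], 28), ([2, 0, 2, 0, 2, 0, 2, 0, 2, 2, 2, 2], 14),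
  ([0, 2, 0, 2, 0, 2, 0, 2, 0, 2, 0, 2, 0], 2), ([0, 2, 0, 2, 0, 2, 0, 2, 0, 2, 0, 2, 2], 8),
  ([0, 2, 0, 2, 0, 2, 0, 2, 0, 2, 2, 2, 0], 8), ([0, 2, 0, 2, 0, 2, 0, 2, 0, 2, 2, 2, 2], 2),
  ([2, 0, 2, 0, 2, 0, 2, 0, 2, 0, 2, 0, 2], 8), ([2, 0, 2, 0, 2, 0, 2, 0, 2, 0, 2, 2, 2], 2),
  ([2, 0, 2, 0, 2, 0, 2, 0, 2, 2, 2, 0, 2], 2), ([2, 0, 2, 0, 2, 0, 2, 0, 2, 2, 2, 2, 2], 8),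
  ([0, 2, 0, 2, 0, 2, 0, 2, 0, 2, 0, 2, 0, 2], 4), ([0, 2, 0, 2, 0, 2, 0, 2, 0, 2, 0, 2, 2, 2], 28),
  ([0, 2, 0, 2, 0, 2, 0, 2, 0, 2, 2, 2, 0, 2], 28), ([0, 2, 0, 2, 0, 2, 0, 2, 0, 2, 2, 2, 2, 2], 28),
  ([2, 0, 2, 0, 2, 0, 2, 0, 2, 0, 2, 0, 2, 0], 4), ([2, 0, 2, 0, 2, 0, 2, 0, 2, 0, 2, 0, 2, 2], 28),
  ([2, 0, 2, 0, 2, 0, 2, 0, 2, 0, 2, 2, 2, 0], 28), ([2, 0, 2, 0, 2, 0, 2, 0, 2, 0, 2, 2, 2, 2], 28),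
  ([0, 2, 0, 2, 0, 2, 0, 2, 0, 2, 0, 2, 0, 2, 0], 8), ([0, 2, 0, 2, 0, 2, 0, 2, 0, 2, 0, 2, 0, 2, 2], 2),
  ([0, 2, 0, 2, 0, 2, 0, 2, 0, 2, 0, 2, 2, 2, 0], 2), ([0, 2, 0, 2, 0, 2, 0, 2, 0, 2, 0, 2, 2, 2, 2], 8),
  ([2, 0, 2, 0, 2, 0, 2, 0, 2, 0, 2, 0, 2, 0, 2], 2), ([2, 0, 2, 0, 2, 0, 2, 0, 2, 0, 2, 2, 2, 0, 2], 8),
  ([2, 0, 2, 0, 2, 0, 2, 0, 2, 0, 2, 2, 2, 2, 2], 2), ([0, 2, 0, 2, 0, 2, 0, 2, 0, 2, 0, 2, 0, 2, 0, 2], 7),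
  ([0, 2, 0, 2, 0, 2, 0, 2, 0, 2, 0, 2, 2, 2, 0, 2], 4), ([0, 2, 0, 2, 0, 2, 0, 2, 0, 2, 0, 2, 2, 2, 2, 2], 7),
  ([2, 0, 2, 0, 2, 0, 2, 0, 2, 0, 2, 0, 2, 0, 2, 2], 4),
  ([0, 2, 0, 2, 0, 2, 0, 2, 0, 2, 0, 2, 0, 2, 0, 2, 2], 8)]

theorem eH5 : enumC γH5 dH5 = true := by decide +kernel

def γH6 : List ℕ := [775628046757750092479287429315, 775628046757751113961995179139]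

def dH6 : List (List ℕ × ℕ) := [
  ([], 1), ([0], 6), ([2], 14), ([0, 0], 3), ([0, 2], 12), ([2, 0], 12), ([2, 2], 7), ([0, 0, 0], 2),
  ([0, 0, 2], 6), ([0, 2, 0], 6), ([0, 2, 2], 6), ([2, 0, 0], 6), ([2, 0, 2], 6), ([2, 2, 0], 6),
  ([2, 2, 2], 14), ([0, 0, 0, 0], 3), ([0, 0, 0, 2], 4), ([0, 0, 2, 0], 4), ([0, 0, 2, 2], 3), ([0, 2, 0, 0], 4),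
  ([0, 2, 0, 2], 6), ([0, 2, 2, 0], 3), ([0, 2, 2, 2], 12), ([2, 0, 0, 0], 4), ([2, 0, 0, 2], 3),
  ([2, 0, 2, 0], 6), ([2, 0, 2, 2], 12), ([2, 2, 0, 0], 3), ([2, 2, 0, 2], 12), ([2, 2, 2, 0], 12),
  ([2, 2, 2, 2], 7), ([0, 0, 0, 0, 0], 6), ([0, 0, 0, 0, 2], 6), ([0, 0, 0, 2, 0], 6), ([0, 0, 0, 2, 2], 2),
  ([0, 0, 2, 0, 0], 6), ([0, 0, 2, 0, 2], 2), ([0, 0, 2, 2, 0], 2), ([0, 0, 2, 2, 2], 6), ([0, 2, 0, 0, 0], 6),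
  ([0, 2, 0, 0, 2], 2), ([0, 2, 0, 2, 0], 2), ([0, 2, 0, 2, 2], 6), ([0, 2, 2, 0, 0], 2), ([0, 2, 2, 2, 0], 6),
  ([0, 2, 2, 2, 2], 6), ([2, 0, 0, 0, 0], 6), ([2, 0, 0, 0, 2], 2), ([2, 0, 0, 2, 0], 2), ([2, 0, 0, 2, 2], 6),
  ([2, 0, 2, 0, 0], 2), ([2, 0, 2, 0, 2], 6), ([2, 0, 2, 2, 0], 6), ([2, 0, 2, 2, 2], 6), ([2, 2, 0, 0, 2], 6),
  ([2, 2, 0, 2, 0], 6), ([2, 2, 0, 2, 2], 6), ([2, 2, 2, 0, 0], 6), ([2, 2, 2, 0, 2], 6), ([2, 2, 2, 2, 0], 6),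
  ([2, 2, 2, 2, 2], 14), ([0, 0, 0, 0, 0, 2], 12), ([0, 0, 0, 0, 2, 0], 12), ([0, 0, 0, 0, 2, 2], 3),
  ([0, 0, 0, 2, 0, 0], 12), ([0, 0, 0, 2, 0, 2], 6), ([0, 0, 0, 2, 2, 0], 3), ([0, 0, 0, 2, 2, 2], 4),
  ([0, 0, 2, 0, 0, 0], 12), ([0, 0, 2, 0, 0, 2], 3), ([0, 0, 2, 0, 2, 0], 6), ([0, 0, 2, 0, 2, 2], 4),
  ([0, 0, 2, 2, 0, 0], 3), ([0, 0, 2, 2, 2, 0], 4), ([0, 0, 2, 2, 2, 2], 3), ([0, 2, 0, 0, 0, 0], 12),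
  ([0, 2, 0, 0, 0, 2], 6), ([0, 2, 0, 0, 2, 0], 3), ([0, 2, 0, 0, 2, 2], 4), ([0, 2, 0, 2, 0, 0], 6),
  ([0, 2, 0, 2, 0, 2], 4), ([0, 2, 0, 2, 2, 0], 4), ([0, 2, 0, 2, 2, 2], 6), ([0, 2, 2, 0, 0, 2], 4),
  ([0, 2, 2, 2, 0, 0], 4), ([0, 2, 2, 2, 2, 0], 3), ([0, 2, 2, 2, 2, 2], 12), ([2, 0, 0, 0, 0, 0], 12),
  ([2, 0, 0, 2, 0, 0], 3), ([2, 0, 0, 2, 2, 0], 4), ([2, 0, 2, 0, 0, 0], 6), ([2, 0, 2, 0, 0, 2], 4),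
  ([2, 0, 2, 0, 2, 2], 6), ([2, 0, 2, 2, 2, 0], 6), ([2, 0, 2, 2, 2, 2], 12), ([2, 2, 0, 2, 0, 2], 6),
  ([2, 2, 0, 2, 2, 2], 12), ([2, 2, 2, 0, 2, 0], 6), ([2, 2, 2, 0, 2, 2], 12), ([2, 2, 2, 2, 0, 2], 12),
  ([2, 2, 2, 2, 2, 0], 12), ([2, 2, 2, 2, 2, 2], 7), ([0, 0, 0, 0, 0, 2, 0], 14), ([0, 0, 0, 0, 0, 2, 2], 6),
  ([0, 0, 0, 0, 2, 0, 0], 14), ([0, 0, 0, 0, 2, 0, 2], 6), ([0, 0, 0, 0, 2, 2, 0], 6),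
  ([0, 0, 0, 0, 2, 2, 2], 6), ([0, 0, 0, 2, 0, 0, 0], 14), ([0, 0, 0, 2, 0, 0, 2], 6),
  ([0, 0, 0, 2, 0, 2, 0], 6), ([0, 0, 0, 2, 0, 2, 2], 6), ([0, 0, 0, 2, 2, 0, 0], 6), ([0, 0, 0, 2, 2, 2, 0], 6),
  ([0, 0, 2, 0, 0, 0, 0], 14), ([0, 0, 2, 0, 0, 0, 2], 6), ([0, 0, 2, 0, 0, 2, 0], 6),
  ([0, 0, 2, 0, 0, 2, 2], 6), ([0, 0, 2, 0, 2, 0, 0], 6), ([0, 0, 2, 0, 2, 0, 2], 6), ([0, 0, 2, 0, 2, 2, 0], 6),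
  ([0, 0, 2, 0, 2, 2, 2], 2), ([0, 0, 2, 2, 2, 0, 0], 6), ([0, 0, 2, 2, 2, 2, 0], 2),
  ([0, 2, 0, 0, 0, 0, 0], 14), ([0, 2, 0, 0, 2, 0, 0], 6), ([0, 2, 0, 0, 2, 2, 0], 6),
  ([0, 2, 0, 2, 0, 0, 0], 6), ([0, 2, 0, 2, 0, 0, 2], 6), ([0, 2, 0, 2, 0, 2, 2], 2), ([0, 2, 0, 2, 2, 2, 0], 2),
  ([0, 2, 0, 2, 2, 2, 2], 6), ([0, 2, 2, 2, 2, 2, 0], 6), ([2, 0, 0, 0, 0, 0, 2], 6), ([2, 0, 2, 0, 0, 0, 0], 6),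
  ([2, 0, 2, 2, 2, 2, 2], 6), ([2, 2, 2, 0, 2, 2, 2], 6), ([2, 2, 2, 2, 0, 2, 2], 6), ([2, 2, 2, 2, 2, 0, 2], 6),
  ([2, 2, 2, 2, 2, 2, 2], 2), ([0, 0, 0, 0, 0, 2, 0, 2], 14), ([0, 0, 0, 0, 0, 2, 2, 0], 7),
  ([0, 0, 0, 0, 0, 2, 2, 2], 12), ([0, 0, 0, 0, 2, 0, 0, 0], 12), ([0, 0, 0, 0, 2, 0, 0, 2], 7),
  ([0, 0, 0, 0, 2, 0, 2, 0], 14), ([0, 0, 0, 0, 2, 0, 2, 2], 12), ([0, 0, 0, 0, 2, 2, 0, 0], 7),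
  ([0, 0, 0, 0, 2, 2, 2, 0], 12), ([0, 0, 0, 2, 0, 0, 0, 0], 12), ([0, 0, 0, 2, 0, 0, 0, 2], 2),
  ([0, 0, 0, 2, 0, 0, 2, 2], 12), ([0, 0, 0, 2, 0, 2, 0, 0], 14), ([0, 0, 0, 2, 0, 2, 2, 0], 12),
  ([0, 0, 0, 2, 2, 2, 0, 0], 12), ([0, 0, 2, 0, 0, 2, 2, 0], 12), ([0, 0, 2, 0, 2, 0, 0, 0], 14),
  ([0, 0, 2, 0, 2, 0, 0, 2], 12), ([0, 0, 2, 0, 2, 0, 2, 2], 6), ([0, 0, 2, 0, 2, 2, 2, 0], 6),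
  ([0, 2, 0, 0, 0, 0, 0, 2], 14), ([0, 2, 0, 2, 0, 0, 0, 0], 14), ([0, 0, 0, 0, 0, 2, 0, 2, 2], 2),
  ([0, 0, 0, 0, 0, 2, 2, 2, 0], 14), ([0, 0, 0, 0, 2, 0, 0, 0, 2], 6), ([0, 0, 0, 0, 2, 0, 0, 2, 2], 14),
  ([0, 0, 0, 2, 0, 0, 2, 2, 0], 14), ([0, 0, 0, 2, 0, 2, 0, 0, 2], 14)]

theorem eH6 : enumC γH6 dH6 = true := by decide +kernel

def γH7 : List ℕ := [775628043066136107868677509123, 775628038527006393465155223654]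

def dH7 : List (List ℕ × ℕ) := [
  ([], 1), ([0], 6), ([2], 6), ([0, 0], 3), ([0, 2], 6), ([2, 0], 6), ([2, 2], 3), ([0, 0, 0], 2),
  ([0, 0, 2], 28), ([0, 2, 0], 28), ([0, 2, 2], 28), ([2, 0, 0], 28), ([2, 0, 2], 28), ([2, 2, 0], 28),
  ([0, 0, 0, 0], 3), ([0, 0, 0, 2], 3), ([0, 0, 2, 0], 3), ([0, 0, 2, 2], 6), ([0, 2, 0, 0], 3),
  ([0, 2, 0, 2], 3), ([0, 2, 2, 0], 6), ([2, 0, 0, 2], 6), ([2, 0, 2, 0], 3), ([2, 0, 2, 2], 3),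
  ([2, 2, 0, 0], 6), ([2, 2, 0, 2], 3), ([0, 0, 0, 0, 0], 6), ([0, 0, 0, 0, 2], 3), ([0, 0, 0, 2, 0], 3),
  ([0, 0, 0, 2, 2], 6), ([0, 0, 2, 0, 0], 3), ([0, 0, 2, 0, 2], 3), ([0, 0, 2, 2, 0], 6), ([0, 2, 0, 0, 2], 3),
  ([0, 2, 0, 2, 2], 3), ([0, 2, 2, 0, 0], 6), ([0, 2, 2, 0, 2], 3), ([2, 0, 0, 2, 0], 3), ([2, 0, 0, 2, 2], 6),
  ([2, 0, 2, 0, 0], 3), ([2, 0, 2, 2, 0], 3), ([2, 2, 0, 0, 2], 6), ([2, 2, 0, 2, 0], 3), ([2, 2, 0, 2, 2], 3),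
  ([0, 0, 0, 0, 0, 2], 28), ([0, 0, 0, 0, 2, 0], 28), ([0, 0, 0, 0, 2, 2], 28), ([0, 0, 0, 2, 0, 0], 28),
  ([0, 0, 0, 2, 0, 2], 28), ([0, 0, 0, 2, 2, 0], 28), ([0, 0, 2, 0, 0, 2], 14), ([0, 0, 2, 0, 2, 2], 28),
  ([0, 0, 2, 2, 0, 2], 28), ([0, 2, 0, 0, 2, 0], 14), ([0, 2, 0, 0, 2, 2], 28), ([0, 2, 0, 2, 2, 0], 28),
  ([0, 2, 2, 0, 0, 2], 28), ([0, 2, 2, 0, 2, 0], 28), ([0, 2, 2, 0, 2, 2], 14), ([2, 0, 0, 2, 0, 0], 14),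
  ([2, 0, 0, 2, 0, 2], 28), ([2, 0, 0, 2, 2, 0], 28), ([2, 0, 2, 0, 0, 2], 28), ([2, 0, 2, 2, 0, 0], 28),
  ([2, 0, 2, 2, 0, 2], 14), ([2, 2, 0, 0, 2, 0], 28), ([2, 2, 0, 2, 0, 0], 28), ([2, 2, 0, 2, 2, 0], 14),
  ([0, 0, 0, 0, 0, 2, 0], 6), ([0, 0, 0, 0, 2, 0, 0], 6), ([0, 0, 0, 0, 2, 2, 0], 3), ([0, 0, 0, 2, 0, 0, 2], 3),
  ([0, 0, 0, 2, 0, 2, 2], 6), ([0, 0, 0, 2, 2, 0, 2], 6), ([0, 0, 2, 0, 0, 2, 0], 3), ([0, 0, 2, 0, 0, 2, 2], 3),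
  ([0, 0, 2, 0, 2, 2, 0], 6), ([0, 0, 2, 2, 0, 2, 0], 6), ([0, 0, 2, 2, 0, 2, 2], 3), ([0, 2, 0, 0, 2, 0, 0], 3),
  ([0, 2, 0, 0, 2, 0, 2], 3), ([0, 2, 0, 0, 2, 2, 0], 3), ([0, 2, 0, 2, 2, 0, 0], 6), ([0, 2, 0, 2, 2, 0, 2], 3),
  ([0, 2, 2, 0, 0, 2, 0], 3), ([0, 2, 2, 0, 2, 0, 0], 6), ([0, 2, 2, 0, 2, 2, 0], 3), ([2, 0, 0, 2, 0, 0, 2], 3),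
  ([2, 0, 0, 2, 0, 2, 2], 6), ([2, 0, 0, 2, 2, 0, 2], 3), ([2, 0, 2, 0, 0, 2, 2], 6), ([2, 0, 2, 2, 0, 0, 2], 3),
  ([2, 0, 2, 2, 0, 2, 2], 3), ([2, 2, 0, 0, 2, 0, 2], 6), ([2, 2, 0, 2, 0, 0, 2], 6), ([2, 2, 0, 2, 2, 0, 2], 3),
  ([0, 0, 0, 0, 0, 2, 0, 0], 6), ([0, 0, 0, 0, 2, 0, 0, 2], 6), ([0, 0, 0, 0, 2, 2, 0, 2], 6),
  ([0, 0, 0, 2, 0, 0, 2, 0], 6), ([0, 0, 0, 2, 0, 2, 2, 0], 6), ([0, 0, 0, 2, 2, 0, 2, 2], 6),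
  ([0, 0, 2, 0, 0, 2, 0, 0], 6), ([0, 0, 2, 0, 0, 2, 0, 2], 3), ([0, 0, 2, 0, 0, 2, 2, 0], 3),
  ([0, 0, 2, 0, 2, 2, 0, 0], 6), ([0, 0, 2, 0, 2, 2, 0, 2], 6), ([0, 0, 2, 2, 0, 2, 0, 0], 6),
  ([0, 0, 2, 2, 0, 2, 2, 0], 6), ([0, 2, 0, 0, 2, 0, 0, 2], 3), ([0, 2, 0, 0, 2, 0, 2, 2], 6),
  ([0, 2, 0, 0, 2, 2, 0, 2], 3), ([0, 2, 0, 2, 2, 0, 0, 2], 3), ([0, 2, 0, 2, 2, 0, 2, 2], 3),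
  ([0, 2, 2, 0, 0, 2, 0, 2], 3), ([0, 2, 2, 0, 2, 0, 0, 2], 6), ([0, 2, 2, 0, 2, 2, 0, 2], 3),
  ([2, 0, 0, 2, 0, 0, 2, 0], 3), ([2, 0, 0, 2, 0, 0, 2, 2], 6), ([2, 0, 0, 2, 0, 2, 2, 0], 6),
  ([2, 0, 0, 2, 2, 0, 2, 0], 3), ([2, 0, 0, 2, 2, 0, 2, 2], 3), ([2, 0, 2, 0, 0, 2, 2, 0], 3),
  ([2, 2, 0, 0, 2, 0, 2, 2], 6), ([2, 2, 0, 2, 0, 0, 2, 2], 6), ([2, 2, 0, 2, 2, 0, 2, 2], 6),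
  ([0, 0, 0, 0, 0, 2, 0, 0, 2], 7), ([0, 0, 0, 0, 2, 0, 0, 2, 0], 7), ([0, 0, 0, 0, 2, 2, 0, 2, 2], 7),
  ([0, 0, 0, 2, 0, 0, 2, 0, 0], 7), ([0, 0, 0, 2, 0, 2, 2, 0, 2], 7), ([0, 0, 0, 2, 2, 0, 2, 2, 0], 7),
  ([0, 0, 2, 0, 0, 2, 0, 0, 2], 28), ([0, 0, 2, 0, 0, 2, 0, 2, 2], 28), ([0, 0, 2, 0, 0, 2, 2, 0, 2], 4),
  ([0, 0, 2, 0, 2, 2, 0, 0, 2], 28), ([0, 0, 2, 0, 2, 2, 0, 2, 2], 4), ([0, 0, 2, 2, 0, 2, 0, 0, 2], 4),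
  ([0, 0, 2, 2, 0, 2, 2, 0, 2], 28), ([0, 2, 0, 0, 2, 0, 0, 2, 0], 28), ([0, 2, 0, 0, 2, 0, 0, 2, 2], 4),
  ([0, 2, 0, 0, 2, 0, 2, 2, 0], 28), ([0, 2, 0, 0, 2, 2, 0, 2, 0], 4), ([0, 2, 0, 0, 2, 2, 0, 2, 2], 28),
  ([0, 2, 2, 0, 0, 2, 0, 2, 2], 4), ([0, 2, 2, 0, 2, 0, 0, 2, 2], 28), ([0, 2, 2, 0, 2, 2, 0, 2, 2], 28),
  ([2, 0, 0, 2, 0, 2, 2, 0, 0], 28), ([2, 0, 0, 2, 2, 0, 2, 2, 0], 28), ([2, 0, 2, 0, 0, 2, 2, 0, 2], 28),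
  ([0, 0, 0, 0, 0, 2, 0, 0, 2, 0], 6), ([0, 0, 0, 0, 2, 0, 0, 2, 0, 0], 6), ([0, 0, 0, 0, 2, 2, 0, 2, 2, 0], 6),
  ([0, 0, 0, 2, 0, 0, 2, 0, 0, 2], 6), ([0, 0, 0, 2, 0, 2, 2, 0, 2, 2], 6), ([0, 0, 0, 2, 2, 0, 2, 2, 0, 2], 6),
  ([0, 0, 2, 0, 0, 2, 0, 0, 2, 0], 6), ([0, 0, 2, 0, 0, 2, 0, 0, 2, 2], 3), ([0, 0, 2, 0, 0, 2, 2, 0, 2, 0], 6),
  ([0, 0, 2, 0, 0, 2, 2, 0, 2, 2], 6), ([0, 0, 2, 2, 0, 2, 0, 0, 2, 2], 3), ([0, 0, 2, 2, 0, 2, 2, 0, 2, 2], 3),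
  ([0, 2, 0, 0, 2, 0, 2, 2, 0, 0], 3), ([0, 2, 0, 0, 2, 2, 0, 2, 2, 0], 6),
  ([0, 0, 0, 0, 0, 2, 0, 0, 2, 0, 0], 3), ([0, 0, 0, 0, 2, 2, 0, 2, 2, 0, 2], 6),
  ([0, 0, 0, 2, 0, 0, 2, 0, 0, 2, 0], 6), ([0, 0, 0, 2, 2, 0, 2, 2, 0, 2, 2], 3)]

theorem eH7 : enumC γH7 dH7 = true := by decide +kernel

def γH8 : List ℕ := [775628043181457359101497475269, 775628045614049674093240881318]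

def dH8 : List (List ℕ × ℕ) := [
  ([], 1), ([0], 84), ([2], 2), ([0, 0], 42), ([0, 2], 2), ([2, 0], 2), ([0, 0, 0], 28), ([0, 0, 2], 2),
  ([2, 0, 0], 2), ([2, 0, 2], 84), ([0, 0, 0, 0], 21), ([0, 0, 0, 2], 2), ([2, 0, 0, 0], 2), ([2, 0, 0, 2], 42),
  ([0, 0, 0, 0, 0], 84), ([0, 0, 0, 0, 2], 2), ([2, 0, 0, 0, 0], 2), ([2, 0, 0, 0, 2], 28),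
  ([0, 0, 0, 0, 0, 0], 14), ([0, 0, 0, 0, 0, 2], 2), ([2, 0, 0, 0, 0, 0], 2), ([2, 0, 0, 0, 0, 2], 21),
  ([0, 0, 0, 0, 0, 0, 0], 12), ([0, 0, 0, 0, 0, 0, 2], 2), ([2, 0, 0, 0, 0, 0, 0], 2),
  ([2, 0, 0, 0, 0, 0, 2], 84), ([0, 0, 0, 0, 0, 0, 0, 0], 21), ([0, 0, 0, 0, 0, 0, 0, 2], 2),
  ([2, 0, 0, 0, 0, 0, 0, 0], 2), ([2, 0, 0, 0, 0, 0, 0, 2], 14), ([0, 0, 0, 0, 0, 0, 0, 0, 0], 28),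
  ([0, 0, 0, 0, 0, 0, 0, 0, 2], 2), ([2, 0, 0, 0, 0, 0, 0, 0, 0], 2), ([2, 0, 0, 0, 0, 0, 0, 0, 2], 12),
  ([0, 0, 0, 0, 0, 0, 0, 0, 0, 0], 42), ([0, 0, 0, 0, 0, 0, 0, 0, 0, 2], 2), ([2, 0, 0, 0, 0, 0, 0, 0, 0, 0], 2),
  ([2, 0, 0, 0, 0, 0, 0, 0, 0, 2], 21), ([0, 0, 0, 0, 0, 0, 0, 0, 0, 0, 0], 84),
  ([0, 0, 0, 0, 0, 0, 0, 0, 0, 0, 2], 2), ([2, 0, 0, 0, 0, 0, 0, 0, 0, 0, 0], 2),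
  ([2, 0, 0, 0, 0, 0, 0, 0, 0, 0, 2], 28), ([0, 0, 0, 0, 0, 0, 0, 0, 0, 0, 0, 0], 7),
  ([0, 0, 0, 0, 0, 0, 0, 0, 0, 0, 0, 2], 2), ([2, 0, 0, 0, 0, 0, 0, 0, 0, 0, 0, 0], 2),
  ([2, 0, 0, 0, 0, 0, 0, 0, 0, 0, 0, 2], 42), ([0, 0, 0, 0, 0, 0, 0, 0, 0, 0, 0, 0, 0], 84),
  ([0, 0, 0, 0, 0, 0, 0, 0, 0, 0, 0, 0, 2], 2), ([2, 0, 0, 0, 0, 0, 0, 0, 0, 0, 0, 0, 0], 2),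
  ([2, 0, 0, 0, 0, 0, 0, 0, 0, 0, 0, 0, 2], 84), ([0, 0, 0, 0, 0, 0, 0, 0, 0, 0, 0, 0, 0, 0], 6),
  ([0, 0, 0, 0, 0, 0, 0, 0, 0, 0, 0, 0, 0, 2], 2), ([2, 0, 0, 0, 0, 0, 0, 0, 0, 0, 0, 0, 0, 0], 2),
  ([2, 0, 0, 0, 0, 0, 0, 0, 0, 0, 0, 0, 0, 2], 7), ([0, 0, 0, 0, 0, 0, 0, 0, 0, 0, 0, 0, 0, 0, 0], 28),
  ([0, 0, 0, 0, 0, 0, 0, 0, 0, 0, 0, 0, 0, 0, 2], 2), ([2, 0, 0, 0, 0, 0, 0, 0, 0, 0, 0, 0, 0, 0, 0], 2),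
  ([2, 0, 0, 0, 0, 0, 0, 0, 0, 0, 0, 0, 0, 0, 2], 84), ([0, 0, 0, 0, 0, 0, 0, 0, 0, 0, 0, 0, 0, 0, 0, 0], 21),
  ([0, 0, 0, 0, 0, 0, 0, 0, 0, 0, 0, 0, 0, 0, 0, 2], 2), ([2, 0, 0, 0, 0, 0, 0, 0, 0, 0, 0, 0, 0, 0, 0, 0], 2),
  ([2, 0, 0, 0, 0, 0, 0, 0, 0, 0, 0, 0, 0, 0, 0, 2], 6),
  ([0, 0, 0, 0, 0, 0, 0, 0, 0, 0, 0, 0, 0, 0, 0, 0, 0], 84),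
  ([0, 0, 0, 0, 0, 0, 0, 0, 0, 0, 0, 0, 0, 0, 0, 0, 2], 2),
  ([2, 0, 0, 0, 0, 0, 0, 0, 0, 0, 0, 0, 0, 0, 0, 0, 0], 2),
  ([2, 0, 0, 0, 0, 0, 0, 0, 0, 0, 0, 0, 0, 0, 0, 0, 2], 28),
  ([0, 0, 0, 0, 0, 0, 0, 0, 0, 0, 0, 0, 0, 0, 0, 0, 0, 0], 14),
  ([0, 0, 0, 0, 0, 0, 0, 0, 0, 0, 0, 0, 0, 0, 0, 0, 0, 2], 2),
  ([2, 0, 0, 0, 0, 0, 0, 0, 0, 0, 0, 0, 0, 0, 0, 0, 0, 0], 2),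
  ([2, 0, 0, 0, 0, 0, 0, 0, 0, 0, 0, 0, 0, 0, 0, 0, 0, 2], 21),
  ([0, 0, 0, 0, 0, 0, 0, 0, 0, 0, 0, 0, 0, 0, 0, 0, 0, 0, 0], 84),
  ([0, 0, 0, 0, 0, 0, 0, 0, 0, 0, 0, 0, 0, 0, 0, 0, 0, 0, 2], 2),
  ([2, 0, 0, 0, 0, 0, 0, 0, 0, 0, 0, 0, 0, 0, 0, 0, 0, 0, 0], 2),
  ([2, 0, 0, 0, 0, 0, 0, 0, 0, 0, 0, 0, 0, 0, 0, 0, 0, 0, 2], 84),
  ([0, 0, 0, 0, 0, 0, 0, 0, 0, 0, 0, 0, 0, 0, 0, 0, 0, 0, 0, 0], 21),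
  ([0, 0, 0, 0, 0, 0, 0, 0, 0, 0, 0, 0, 0, 0, 0, 0, 0, 0, 0, 2], 2),
  ([2, 0, 0, 0, 0, 0, 0, 0, 0, 0, 0, 0, 0, 0, 0, 0, 0, 0, 0, 0], 2),
  ([2, 0, 0, 0, 0, 0, 0, 0, 0, 0, 0, 0, 0, 0, 0, 0, 0, 0, 0, 2], 14),
  ([0, 0, 0, 0, 0, 0, 0, 0, 0, 0, 0, 0, 0, 0, 0, 0, 0, 0, 0, 0, 0], 4),
  ([0, 0, 0, 0, 0, 0, 0, 0, 0, 0, 0, 0, 0, 0, 0, 0, 0, 0, 0, 0, 2], 2),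
  ([2, 0, 0, 0, 0, 0, 0, 0, 0, 0, 0, 0, 0, 0, 0, 0, 0, 0, 0, 0, 0], 2),
  ([2, 0, 0, 0, 0, 0, 0, 0, 0, 0, 0, 0, 0, 0, 0, 0, 0, 0, 0, 0, 2], 84),
  ([0, 0, 0, 0, 0, 0, 0, 0, 0, 0, 0, 0, 0, 0, 0, 0, 0, 0, 0, 0, 0, 0], 42),
  ([0, 0, 0, 0, 0, 0, 0, 0, 0, 0, 0, 0, 0, 0, 0, 0, 0, 0, 0, 0, 0, 2], 2),
  ([2, 0, 0, 0, 0, 0, 0, 0, 0, 0, 0, 0, 0, 0, 0, 0, 0, 0, 0, 0, 0, 0], 2),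
  ([2, 0, 0, 0, 0, 0, 0, 0, 0, 0, 0, 0, 0, 0, 0, 0, 0, 0, 0, 0, 0, 2], 21),
  ([0, 0, 0, 0, 0, 0, 0, 0, 0, 0, 0, 0, 0, 0, 0, 0, 0, 0, 0, 0, 0, 0, 0], 84),
  ([0, 0, 0, 0, 0, 0, 0, 0, 0, 0, 0, 0, 0, 0, 0, 0, 0, 0, 0, 0, 0, 0, 2], 2),
  ([2, 0, 0, 0, 0, 0, 0, 0, 0, 0, 0, 0, 0, 0, 0, 0, 0, 0, 0, 0, 0, 0, 0], 2),
  ([2, 0, 0, 0, 0, 0, 0, 0, 0, 0, 0, 0, 0, 0, 0, 0, 0, 0, 0, 0, 0, 0, 2], 4),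
  ([0, 0, 0, 0, 0, 0, 0, 0, 0, 0, 0, 0, 0, 0, 0, 0, 0, 0, 0, 0, 0, 0, 0, 0], 7),
  ([0, 0, 0, 0, 0, 0, 0, 0, 0, 0, 0, 0, 0, 0, 0, 0, 0, 0, 0, 0, 0, 0, 0, 2], 2),
  ([2, 0, 0, 0, 0, 0, 0, 0, 0, 0, 0, 0, 0, 0, 0, 0, 0, 0, 0, 0, 0, 0, 0, 0], 2),
  ([2, 0, 0, 0, 0, 0, 0, 0, 0, 0, 0, 0, 0, 0, 0, 0, 0, 0, 0, 0, 0, 0, 0, 2], 42),
  ([0, 0, 0, 0, 0, 0, 0, 0, 0, 0, 0, 0, 0, 0, 0, 0, 0, 0, 0, 0, 0, 0, 0, 0, 0], 84),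
  ([0, 0, 0, 0, 0, 0, 0, 0, 0, 0, 0, 0, 0, 0, 0, 0, 0, 0, 0, 0, 0, 0, 0, 0, 2], 2),
  ([2, 0, 0, 0, 0, 0, 0, 0, 0, 0, 0, 0, 0, 0, 0, 0, 0, 0, 0, 0, 0, 0, 0, 0, 0], 2),
  ([2, 0, 0, 0, 0, 0, 0, 0, 0, 0, 0, 0, 0, 0, 0, 0, 0, 0, 0, 0, 0, 0, 0, 0, 2], 84),
  ([0, 0, 0, 0, 0, 0, 0, 0, 0, 0, 0, 0, 0, 0, 0, 0, 0, 0, 0, 0, 0, 0, 0, 0, 0, 0], 42),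
  ([0, 0, 0, 0, 0, 0, 0, 0, 0, 0, 0, 0, 0, 0, 0, 0, 0, 0, 0, 0, 0, 0, 0, 0, 0, 2], 2),
  ([2, 0, 0, 0, 0, 0, 0, 0, 0, 0, 0, 0, 0, 0, 0, 0, 0, 0, 0, 0, 0, 0, 0, 0, 0, 0], 2),
  ([2, 0, 0, 0, 0, 0, 0, 0, 0, 0, 0, 0, 0, 0, 0, 0, 0, 0, 0, 0, 0, 0, 0, 0, 0, 2], 7),
  ([0, 0, 0, 0, 0, 0, 0, 0, 0, 0, 0, 0, 0, 0, 0, 0, 0, 0, 0, 0, 0, 0, 0, 0, 0, 0, 0], 28),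
  ([0, 0, 0, 0, 0, 0, 0, 0, 0, 0, 0, 0, 0, 0, 0, 0, 0, 0, 0, 0, 0, 0, 0, 0, 0, 0, 2], 2),
  ([2, 0, 0, 0, 0, 0, 0, 0, 0, 0, 0, 0, 0, 0, 0, 0, 0, 0, 0, 0, 0, 0, 0, 0, 0, 0, 0], 2),
  ([2, 0, 0, 0, 0, 0, 0, 0, 0, 0, 0, 0, 0, 0, 0, 0, 0, 0, 0, 0, 0, 0, 0, 0, 0, 0, 2], 84),
  ([0, 0, 0, 0, 0, 0, 0, 0, 0, 0, 0, 0, 0, 0, 0, 0, 0, 0, 0, 0, 0, 0, 0, 0, 0, 0, 0, 0], 3),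
  ([0, 0, 0, 0, 0, 0, 0, 0, 0, 0, 0, 0, 0, 0, 0, 0, 0, 0, 0, 0, 0, 0, 0, 0, 0, 0, 0, 2], 2),
  ([2, 0, 0, 0, 0, 0, 0, 0, 0, 0, 0, 0, 0, 0, 0, 0, 0, 0, 0, 0, 0, 0, 0, 0, 0, 0, 0, 0], 2),
  ([2, 0, 0, 0, 0, 0, 0, 0, 0, 0, 0, 0, 0, 0, 0, 0, 0, 0, 0, 0, 0, 0, 0, 0, 0, 0, 0, 2], 42),
  ([0, 0, 0, 0, 0, 0, 0, 0, 0, 0, 0, 0, 0, 0, 0, 0, 0, 0, 0, 0, 0, 0, 0, 0, 0, 0, 0, 0, 0], 84),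
  ([0, 0, 0, 0, 0, 0, 0, 0, 0, 0, 0, 0, 0, 0, 0, 0, 0, 0, 0, 0, 0, 0, 0, 0, 0, 0, 0, 0, 2], 2),
  ([2, 0, 0, 0, 0, 0, 0, 0, 0, 0, 0, 0, 0, 0, 0, 0, 0, 0, 0, 0, 0, 0, 0, 0, 0, 0, 0, 0, 0], 2),
  ([2, 0, 0, 0, 0, 0, 0, 0, 0, 0, 0, 0, 0, 0, 0, 0, 0, 0, 0, 0, 0, 0, 0, 0, 0, 0, 0, 0, 2], 28),
  ([0, 0, 0, 0, 0, 0, 0, 0, 0, 0, 0, 0, 0, 0, 0, 0, 0, 0, 0, 0, 0, 0, 0, 0, 0, 0, 0, 0, 0, 0], 14),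
  ([0, 0, 0, 0, 0, 0, 0, 0, 0, 0, 0, 0, 0, 0, 0, 0, 0, 0, 0, 0, 0, 0, 0, 0, 0, 0, 0, 0, 0, 2], 2),
  ([2, 0, 0, 0, 0, 0, 0, 0, 0, 0, 0, 0, 0, 0, 0, 0, 0, 0, 0, 0, 0, 0, 0, 0, 0, 0, 0, 0, 0, 0], 2),
  ([2, 0, 0, 0, 0, 0, 0, 0, 0, 0, 0, 0, 0, 0, 0, 0, 0, 0, 0, 0, 0, 0, 0, 0, 0, 0, 0, 0, 0, 2], 3),
  ([0, 0, 0, 0, 0, 0, 0, 0, 0, 0, 0, 0, 0, 0, 0, 0, 0, 0, 0, 0, 0, 0, 0, 0, 0, 0, 0, 0, 0, 0, 0], 84),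
  ([0, 0, 0, 0, 0, 0, 0, 0, 0, 0, 0, 0, 0, 0, 0, 0, 0, 0, 0, 0, 0, 0, 0, 0, 0, 0, 0, 0, 0, 0, 2], 2),
  ([2, 0, 0, 0, 0, 0, 0, 0, 0, 0, 0, 0, 0, 0, 0, 0, 0, 0, 0, 0, 0, 0, 0, 0, 0, 0, 0, 0, 0, 0, 0], 2),
  ([2, 0, 0, 0, 0, 0, 0, 0, 0, 0, 0, 0, 0, 0, 0, 0, 0, 0, 0, 0, 0, 0, 0, 0, 0, 0, 0, 0, 0, 0, 2], 84),
  ([0, 0, 0, 0, 0, 0, 0, 0, 0, 0, 0, 0, 0, 0, 0, 0, 0, 0, 0, 0, 0, 0, 0, 0, 0, 0, 0, 0, 0, 0, 0, 0], 21),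
  ([0, 0, 0, 0, 0, 0, 0, 0, 0, 0, 0, 0, 0, 0, 0, 0, 0, 0, 0, 0, 0, 0, 0, 0, 0, 0, 0, 0, 0, 0, 0, 2], 2),
  ([2, 0, 0, 0, 0, 0, 0, 0, 0, 0, 0, 0, 0, 0, 0, 0, 0, 0, 0, 0, 0, 0, 0, 0, 0, 0, 0, 0, 0, 0, 0, 0], 2),
  ([2, 0, 0, 0, 0, 0, 0, 0, 0, 0, 0, 0, 0, 0, 0, 0, 0, 0, 0, 0, 0, 0, 0, 0, 0, 0, 0, 0, 0, 0, 0, 2], 14),
  ([0, 0, 0, 0, 0, 0, 0, 0, 0, 0, 0, 0, 0, 0, 0, 0, 0, 0, 0, 0, 0, 0, 0, 0, 0, 0, 0, 0, 0, 0, 0, 0, 0], 28),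
  ([0, 0, 0, 0, 0, 0, 0, 0, 0, 0, 0, 0, 0, 0, 0, 0, 0, 0, 0, 0, 0, 0, 0, 0, 0, 0, 0, 0, 0, 0, 0, 0, 2], 2),
  ([2, 0, 0, 0, 0, 0, 0, 0, 0, 0, 0, 0, 0, 0, 0, 0, 0, 0, 0, 0, 0, 0, 0, 0, 0, 0, 0, 0, 0, 0, 0, 0, 0], 2),
  ([2, 0, 0, 0, 0, 0, 0, 0, 0, 0, 0, 0, 0, 0, 0, 0, 0, 0, 0, 0, 0, 0, 0, 0, 0, 0, 0, 0, 0, 0, 0, 0, 2], 84),
  ([0, 0, 0, 0, 0, 0, 0, 0, 0, 0, 0, 0, 0, 0, 0, 0, 0, 0, 0, 0, 0, 0, 0, 0, 0, 0, 0, 0, 0, 0, 0, 0, 0, 0], 42),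
  ([0, 0, 0, 0, 0, 0, 0, 0, 0, 0, 0, 0, 0, 0, 0, 0, 0, 0, 0, 0, 0, 0, 0, 0, 0, 0, 0, 0, 0, 0, 0, 0, 0, 2], 2),
  ([2, 0, 0, 0, 0, 0, 0, 0, 0, 0, 0, 0, 0, 0, 0, 0, 0, 0, 0, 0, 0, 0, 0, 0, 0, 0, 0, 0, 0, 0, 0, 0, 0, 0], 2),
  ([2, 0, 0, 0, 0, 0, 0, 0, 0, 0, 0, 0, 0, 0, 0, 0, 0, 0, 0, 0, 0, 0, 0, 0, 0, 0, 0, 0, 0, 0, 0, 0, 0, 2], 21),
  ([0, 0, 0, 0, 0, 0, 0, 0, 0, 0, 0, 0, 0, 0, 0, 0, 0, 0, 0, 0, 0, 0, 0, 0, 0, 0, 0, 0, 0, 0, 0, 0, 0, 0, 0], 12),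
  ([0, 0, 0, 0, 0, 0, 0, 0, 0, 0, 0, 0, 0, 0, 0, 0, 0, 0, 0, 0, 0, 0, 0, 0, 0, 0, 0, 0, 0, 0, 0, 0, 0, 0, 2], 2),
  ([2, 0, 0, 0, 0, 0, 0, 0, 0, 0, 0, 0, 0, 0, 0, 0, 0, 0, 0, 0, 0, 0, 0, 0, 0, 0, 0, 0, 0, 0, 0, 0, 0, 0, 0], 2),
  ([2, 0, 0, 0, 0, 0, 0, 0, 0, 0, 0, 0, 0, 0, 0, 0, 0, 0, 0, 0, 0, 0, 0, 0, 0, 0, 0, 0, 0, 0, 0, 0, 0, 0, 2], 28),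
  ([0, 0, 0, 0, 0, 0, 0, 0, 0, 0, 0, 0, 0, 0, 0, 0, 0, 0, 0, 0, 0, 0, 0, 0, 0, 0, 0, 0, 0, 0, 0, 0, 0, 0, 0, 0], 7),
  ([0, 0, 0, 0, 0, 0, 0, 0, 0, 0, 0, 0, 0, 0, 0, 0, 0, 0, 0, 0, 0, 0, 0, 0, 0, 0, 0, 0, 0, 0, 0, 0, 0, 0, 0, 2], 2),
  ([2, 0, 0, 0, 0, 0, 0, 0, 0, 0, 0, 0, 0, 0, 0, 0, 0, 0, 0, 0, 0, 0, 0, 0, 0, 0, 0, 0, 0, 0, 0, 0, 0, 0, 0, 0], 2),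
  ([2, 0, 0, 0, 0, 0, 0, 0, 0, 0, 0, 0, 0, 0, 0, 0, 0, 0, 0, 0, 0, 0, 0, 0, 0, 0, 0, 0, 0, 0, 0, 0, 0, 0, 0, 2], 42),
  ([0, 0, 0, 0, 0, 0, 0, 0, 0, 0, 0, 0, 0, 0, 0, 0, 0, 0, 0, 0, 0, 0, 0, 0, 0, 0, 0, 0, 0, 0, 0, 0, 0, 0, 0, 0, 0], 84),
  ([0, 0, 0, 0, 0, 0, 0, 0, 0, 0, 0, 0, 0, 0, 0, 0, 0, 0, 0, 0, 0, 0, 0, 0, 0, 0, 0, 0, 0, 0, 0, 0, 0, 0, 0, 0, 2], 2),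
  ([2, 0, 0, 0, 0, 0, 0, 0, 0, 0, 0, 0, 0, 0, 0, 0, 0, 0, 0, 0, 0, 0, 0, 0, 0, 0, 0, 0, 0, 0, 0, 0, 0, 0, 0, 0, 0], 2),
  ([2, 0, 0, 0, 0, 0, 0, 0, 0, 0, 0, 0, 0, 0, 0, 0, 0, 0, 0, 0, 0, 0, 0, 0, 0, 0, 0, 0, 0, 0, 0, 0, 0, 0, 0, 0, 2], 12),
  ([0, 0, 0, 0, 0, 0, 0, 0, 0, 0, 0, 0, 0, 0, 0, 0, 0, 0, 0, 0, 0, 0, 0, 0, 0, 0, 0, 0, 0, 0, 0, 0, 0, 0, 0, 0, 0, 0], 42),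
  ([0, 0, 0, 0, 0, 0, 0, 0, 0, 0, 0, 0, 0, 0, 0, 0, 0, 0, 0, 0, 0, 0, 0, 0, 0, 0, 0, 0, 0, 0, 0, 0, 0, 0, 0, 0, 0, 2], 2),
  ([2, 0, 0, 0, 0, 0, 0, 0, 0, 0, 0, 0, 0, 0, 0, 0, 0, 0, 0, 0, 0, 0, 0, 0, 0, 0, 0, 0, 0, 0, 0, 0, 0, 0, 0, 0, 0, 0], 2),
  ([2, 0, 0, 0, 0, 0, 0, 0, 0, 0, 0, 0, 0, 0, 0, 0, 0, 0, 0, 0, 0, 0, 0, 0, 0, 0, 0, 0, 0, 0, 0, 0, 0, 0, 0, 0, 0, 2], 7),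
  ([0, 0, 0, 0, 0, 0, 0, 0, 0, 0, 0, 0, 0, 0, 0, 0, 0, 0, 0, 0, 0, 0, 0, 0, 0, 0, 0, 0, 0, 0, 0, 0, 0, 0, 0, 0, 0, 0, 0], 28),
  ([0, 0, 0, 0, 0, 0, 0, 0, 0, 0, 0, 0, 0, 0, 0, 0, 0, 0, 0, 0, 0, 0, 0, 0, 0, 0, 0, 0, 0, 0, 0, 0, 0, 0, 0, 0, 0, 0, 2], 2),
  ([2, 0, 0, 0, 0, 0, 0, 0, 0, 0, 0, 0, 0, 0, 0, 0, 0, 0, 0, 0, 0, 0, 0, 0, 0, 0, 0, 0, 0, 0, 0, 0, 0, 0, 0, 0, 0, 0, 0], 2),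
  ([2, 0, 0, 0, 0, 0, 0, 0, 0, 0, 0, 0, 0, 0, 0, 0, 0, 0, 0, 0, 0, 0, 0, 0, 0, 0, 0, 0, 0, 0, 0, 0, 0, 0, 0, 0, 0, 0, 2], 84),
  ([0, 0, 0, 0, 0, 0, 0, 0, 0, 0, 0, 0, 0, 0, 0, 0, 0, 0, 0, 0, 0, 0, 0, 0, 0, 0, 0, 0, 0, 0, 0, 0, 0, 0, 0, 0, 0, 0, 0, 0], 21),
  ([0, 0, 0, 0, 0, 0, 0, 0, 0, 0, 0, 0, 0, 0, 0, 0, 0, 0, 0, 0, 0, 0, 0, 0, 0, 0, 0, 0, 0, 0, 0, 0, 0, 0, 0, 0, 0, 0, 0, 2], 2),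
  ([2, 0, 0, 0, 0, 0, 0, 0, 0, 0, 0, 0, 0, 0, 0, 0, 0, 0, 0, 0, 0, 0, 0, 0, 0, 0, 0, 0, 0, 0, 0, 0, 0, 0, 0, 0, 0, 0, 0, 0], 2),
  ([2, 0, 0, 0, 0, 0, 0, 0, 0, 0, 0, 0, 0, 0, 0, 0, 0, 0, 0, 0, 0, 0, 0, 0, 0, 0, 0, 0, 0, 0, 0, 0, 0, 0, 0, 0, 0, 0, 0, 2], 42),
  ([0, 0, 0, 0, 0, 0, 0, 0, 0, 0, 0, 0, 0, 0, 0, 0, 0, 0, 0, 0, 0, 0, 0, 0, 0, 0, 0, 0, 0, 0, 0, 0, 0, 0, 0, 0, 0, 0, 0, 0, 0], 84),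
  ([0, 0, 0, 0, 0, 0, 0, 0, 0, 0, 0, 0, 0, 0, 0, 0, 0, 0, 0, 0, 0, 0, 0, 0, 0, 0, 0, 0, 0, 0, 0, 0, 0, 0, 0, 0, 0, 0, 0, 0, 2], 2),
  ([2, 0, 0, 0, 0, 0, 0, 0, 0, 0, 0, 0, 0, 0, 0, 0, 0, 0, 0, 0, 0, 0, 0, 0, 0, 0, 0, 0, 0, 0, 0, 0, 0, 0, 0, 0, 0, 0, 0, 0, 0], 2),
  ([2, 0, 0, 0, 0, 0, 0, 0, 0, 0, 0, 0, 0, 0, 0, 0, 0, 0, 0, 0, 0, 0, 0, 0, 0, 0, 0, 0, 0, 0, 0, 0, 0, 0, 0, 0, 0, 0, 0, 0, 2], 28),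
  ([0, 0, 0, 0, 0, 0, 0, 0, 0, 0, 0, 0, 0, 0, 0, 0, 0, 0, 0, 0, 0, 0, 0, 0, 0, 0, 0, 0, 0, 0, 0, 0, 0, 0, 0, 0, 0, 0, 0, 0, 0, 0], 2),
  ([0, 0, 0, 0, 0, 0, 0, 0, 0, 0, 0, 0, 0, 0, 0, 0, 0, 0, 0, 0, 0, 0, 0, 0, 0, 0, 0, 0, 0, 0, 0, 0, 0, 0, 0, 0, 0, 0, 0, 0, 0, 2], 2),
  ([2, 0, 0, 0, 0, 0, 0, 0, 0, 0, 0, 0, 0, 0, 0, 0, 0, 0, 0, 0, 0, 0, 0, 0, 0, 0, 0, 0, 0, 0, 0, 0, 0, 0, 0, 0, 0, 0, 0, 0, 0, 0], 2),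
  ([2, 0, 0, 0, 0, 0, 0, 0, 0, 0, 0, 0, 0, 0, 0, 0, 0, 0, 0, 0, 0, 0, 0, 0, 0, 0, 0, 0, 0, 0, 0, 0, 0, 0, 0, 0, 0, 0, 0, 0, 0, 2], 21),
  ([0, 0, 0, 0, 0, 0, 0, 0, 0, 0, 0, 0, 0, 0, 0, 0, 0, 0, 0, 0, 0, 0, 0, 0, 0, 0, 0, 0, 0, 0, 0, 0, 0, 0, 0, 0, 0, 0, 0, 0, 0, 0, 0], 84),
  ([0, 0, 0, 0, 0, 0, 0, 0, 0, 0, 0, 0, 0, 0, 0, 0, 0, 0, 0, 0, 0, 0, 0, 0, 0, 0, 0, 0, 0, 0, 0, 0, 0, 0, 0, 0, 0, 0, 0, 0, 0, 0, 2], 2)]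

theorem eH8 : enumC γH8 dH8 = true := by decide +kernel

end Cfsg.Agent.OT
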