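import Cfsg.Agent.OT.A

set_option autoImplicit false
set_option maxRecDepth 100000
set_option Elab.async false

namespace Cfsg.Agent.OT
open Cfsg.Agent.Comp

def γG0 : List ℕ := [775628046757751184266453060673]

def dG0 : List (List ℕ × ℕ) := [
  ([], 1), ([0], 4), ([0, 0], 2), ([0, 0, 0], 4)]

theorem eG0 : enumC γG0 dG0 = true := by decide +kernel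

theorem sG0 : solvC [([], [[]])] γG0 = true := by decide +kernel

def γG1 : List ℕ := [775628046757751184228707599522, 775628046757751184261991466180]

def dG1 : List (List ℕ × ℕ) := [
  ([], 1), ([0], 4), ([2], 3), ([0, 0], 2), ([0, 2], 6), ([2, 0], 6), ([2, 2], 3), ([0, 0, 0], 4),
  ([0, 0, 2], 6), ([0, 2, 0], 6), ([0, 2, 2], 3), ([2, 0, 2], 3), ([2, 2, 0], 3), ([0, 0, 0, 2], 3),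
  ([0, 0, 2, 0], 3), ([0, 0, 2, 2], 6), ([0, 2, 2, 0], 6), ([2, 0, 2, 2], 4), ([2, 2, 0, 2], 4),
  ([0, 0, 0, 2, 0], 3), ([0, 0, 0, 2, 2], 6), ([0, 0, 2, 2, 0], 6), ([0, 2, 2, 0, 2], 4), ([2, 0, 2, 2, 0], 4)]

theorem eG1 : enumC γG1 dG1 = true := by decide +kernel

theorem sG1 : solvC [([775628046757751184024825534691, 775628046757751184164312514629], [[], [0], [1], [2], [0, 3]]),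
    ([775628046757751184126768288769], [[], [0]]),
    ([], [[]])] γG1 = true := by decide +kernel

def γG2 : List ℕ := [775628046757748966616965775394, 775628046757750092483621028931]

def dG2 : List (List ℕ × ℕ) := [
  ([], 1), ([0], 4), ([2], 2), ([0, 0], 2), ([0, 2], 14), ([2, 0], 14), ([0, 0, 0], 4), ([0, 0, 2], 2),
  ([0, 2, 0], 2), ([2, 0, 2], 4), ([0, 0, 0, 2], 14), ([0, 0, 2, 0], 14), ([0, 2, 0, 2], 7), ([2, 0, 2, 0], 7),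
  ([0, 0, 0, 2, 0], 2), ([0, 0, 2, 0, 2], 4), ([0, 2, 0, 2, 0], 4), ([2, 0, 2, 0, 2], 2),
  ([0, 0, 0, 2, 0, 2], 14), ([0, 0, 2, 0, 2, 0], 14), ([0, 2, 0, 2, 0, 2], 14), ([2, 0, 2, 0, 2, 0], 14),
  ([0, 0, 0, 2, 0, 2, 0], 4), ([0, 0, 2, 0, 2, 0, 2], 2), ([0, 2, 0, 2, 0, 2, 0], 2), ([2, 0, 2, 0, 2, 0, 2], 4),
  ([0, 0, 0, 2, 0, 2, 0, 2], 14), ([0, 0, 2, 0, 2, 0, 2, 0], 14), ([0, 2, 0, 2, 0, 2, 0, 2], 7),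
  ([2, 0, 2, 0, 2, 0, 2, 0], 7), ([0, 0, 0, 2, 0, 2, 0, 2, 0], 2), ([0, 0, 2, 0, 2, 0, 2, 0, 2], 4),
  ([0, 2, 0, 2, 0, 2, 0, 2, 0], 4), ([2, 0, 2, 0, 2, 0, 2, 0, 2], 2), ([0, 0, 0, 2, 0, 2, 0, 2, 0, 2], 14),
  ([0, 0, 2, 0, 2, 0, 2, 0, 2, 0], 14), ([0, 2, 0, 2, 0, 2, 0, 2, 0, 2], 14),
  ([2, 0, 2, 0, 2, 0, 2, 0, 2, 0], 14), ([0, 0, 0, 2, 0, 2, 0, 2, 0, 2, 0], 4),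
  ([0, 0, 2, 0, 2, 0, 2, 0, 2, 0, 2], 2), ([0, 2, 0, 2, 0, 2, 0, 2, 0, 2, 0], 2),
  ([2, 0, 2, 0, 2, 0, 2, 0, 2, 0, 2], 4), ([0, 0, 0, 2, 0, 2, 0, 2, 0, 2, 0, 2], 14),
  ([0, 0, 2, 0, 2, 0, 2, 0, 2, 0, 2, 0], 14), ([0, 2, 0, 2, 0, 2, 0, 2, 0, 2, 0, 2], 7),
  ([2, 0, 2, 0, 2, 0, 2, 0, 2, 0, 2, 0], 7), ([0, 0, 0, 2, 0, 2, 0, 2, 0, 2, 0, 2, 0], 2),
  ([0, 0, 2, 0, 2, 0, 2, 0, 2, 0, 2, 0, 2], 4), ([0, 2, 0, 2, 0, 2, 0, 2, 0, 2, 0, 2, 0], 4),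
  ([2, 0, 2, 0, 2, 0, 2, 0, 2, 0, 2, 0, 2], 2), ([0, 0, 0, 2, 0, 2, 0, 2, 0, 2, 0, 2, 0, 2], 14),
  ([0, 0, 2, 0, 2, 0, 2, 0, 2, 0, 2, 0, 2, 0], 14), ([0, 2, 0, 2, 0, 2, 0, 2, 0, 2, 0, 2, 0, 2], 2),
  ([2, 0, 2, 0, 2, 0, 2, 0, 2, 0, 2, 0, 2, 0], 2), ([0, 0, 0, 2, 0, 2, 0, 2, 0, 2, 0, 2, 0, 2, 0], 4),
  ([0, 0, 2, 0, 2, 0, 2, 0, 2, 0, 2, 0, 2, 0, 2], 2)]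

theorem eG2 : enumC γG2 dG2 = true := by decide +kernel

theorem sG2 : solvC [([775628046757747772582734627013], [[], [0], [1]]),
    ([], [[]])] γG2 = true := by decide +kernel

def γG3 : List ℕ := [775628046757746610371063450689, 775628046757748822585276137570]

def dG3 : List (List ℕ × ℕ) := [
  ([], 1), ([0], 4), ([2], 6), ([0, 0], 2), ([0, 2], 12), ([2, 0], 12), ([2, 2], 3), ([0, 0, 0], 4),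
  ([0, 0, 2], 3), ([0, 2, 0], 3), ([0, 2, 2], 12), ([2, 0, 2], 12), ([2, 2, 0], 12), ([0, 0, 0, 2], 12),
  ([0, 0, 2, 0], 12), ([0, 0, 2, 2], 6), ([0, 2, 0, 2], 6), ([0, 2, 2, 0], 6), ([2, 0, 2, 0], 6),
  ([2, 0, 2, 2], 4), ([2, 2, 0, 2], 4), ([0, 0, 0, 2, 0], 6), ([0, 0, 0, 2, 2], 12), ([0, 0, 2, 0, 2], 12),
  ([0, 0, 2, 2, 0], 12), ([0, 2, 0, 2, 0], 12), ([0, 2, 0, 2, 2], 7), ([0, 2, 2, 0, 2], 7), ([2, 0, 2, 0, 2], 7),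
  ([2, 0, 2, 2, 0], 7), ([2, 2, 0, 2, 0], 7), ([2, 2, 0, 2, 2], 12), ([0, 0, 0, 2, 0, 2], 3),
  ([0, 0, 0, 2, 2, 0], 3), ([0, 0, 2, 0, 2, 0], 3), ([0, 0, 2, 0, 2, 2], 4), ([0, 0, 2, 2, 0, 2], 4),
  ([0, 2, 0, 2, 0, 2], 4), ([0, 2, 0, 2, 2, 0], 4), ([0, 2, 2, 0, 2, 0], 4), ([0, 2, 2, 0, 2, 2], 6),
  ([2, 0, 2, 0, 2, 0], 4), ([2, 0, 2, 0, 2, 2], 6), ([2, 0, 2, 2, 0, 2], 6), ([2, 2, 0, 2, 0, 2], 6),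
  ([2, 2, 0, 2, 2, 0], 6), ([0, 0, 0, 2, 0, 2, 0], 12), ([0, 0, 0, 2, 0, 2, 2], 14), ([0, 0, 0, 2, 2, 0, 2], 14),
  ([0, 0, 2, 0, 2, 0, 2], 14), ([0, 0, 2, 0, 2, 2, 0], 14), ([0, 0, 2, 2, 0, 2, 0], 14),
  ([0, 0, 2, 2, 0, 2, 2], 12), ([0, 2, 0, 2, 0, 2, 0], 14), ([0, 2, 0, 2, 0, 2, 2], 12),
  ([0, 2, 0, 2, 2, 0, 2], 12), ([0, 2, 2, 0, 2, 0, 2], 12), ([0, 2, 2, 0, 2, 2, 0], 12),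
  ([2, 0, 2, 2, 0, 2, 2], 3), ([2, 2, 0, 2, 0, 2, 2], 3), ([2, 2, 0, 2, 2, 0, 2], 3),
  ([0, 0, 0, 2, 0, 2, 0, 2], 4), ([0, 0, 0, 2, 0, 2, 2, 0], 4), ([0, 0, 0, 2, 2, 0, 2, 0], 4),
  ([0, 0, 0, 2, 2, 0, 2, 2], 3), ([0, 0, 2, 0, 2, 0, 2, 0], 4), ([0, 0, 2, 0, 2, 0, 2, 2], 3),
  ([0, 0, 2, 0, 2, 2, 0, 2], 3), ([0, 0, 2, 2, 0, 2, 0, 2], 3), ([0, 0, 2, 2, 0, 2, 2, 0], 3),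
  ([0, 2, 0, 2, 2, 0, 2, 2], 12), ([0, 2, 2, 0, 2, 0, 2, 2], 12), ([0, 2, 2, 0, 2, 2, 0, 2], 12),
  ([0, 0, 0, 2, 0, 2, 0, 2, 0], 7), ([0, 0, 0, 2, 0, 2, 0, 2, 2], 12), ([0, 0, 0, 2, 0, 2, 2, 0, 2], 12),
  ([0, 0, 0, 2, 2, 0, 2, 0, 2], 12), ([0, 0, 0, 2, 2, 0, 2, 2, 0], 12), ([0, 0, 2, 0, 2, 2, 0, 2, 2], 6),
  ([0, 0, 2, 2, 0, 2, 0, 2, 2], 6), ([0, 0, 2, 2, 0, 2, 2, 0, 2], 6), ([0, 0, 0, 2, 0, 2, 2, 0, 2, 2], 12),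
  ([0, 0, 0, 2, 2, 0, 2, 0, 2, 2], 12), ([0, 0, 0, 2, 2, 0, 2, 2, 0, 2], 12)]

theorem eG3 : enumC γG3 dG3 = true := by decide +kernel

theorem sG3 : solvC [([775628046757744465186363901984], [[], [0], [1], [0, 0]]),
    ([], [[]])] γG3 = true := by decide +kernel

def γG4 : List ℕ := [775628046757750025378881276065, 775628046757751115025072854052]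

def dG4 : List (List ℕ × ℕ) := [
  ([], 1), ([0], 3), ([2], 3), ([0, 0], 3), ([0, 2], 3), ([2, 0], 3), ([2, 2], 3), ([0, 0, 2], 14),
  ([0, 2, 0], 14), ([0, 2, 2], 14), ([2, 0, 0], 14), ([2, 0, 2], 14), ([2, 2, 0], 14), ([0, 0, 2, 0], 3),
  ([0, 0, 2, 2], 3), ([0, 2, 0, 0], 3), ([0, 2, 0, 2], 3), ([0, 2, 2, 0], 3), ([2, 0, 0, 2], 3),
  ([2, 0, 2, 2], 3), ([2, 2, 0, 2], 3), ([0, 0, 2, 0, 0], 3), ([0, 0, 2, 0, 2], 3), ([0, 0, 2, 2, 0], 3),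
  ([0, 2, 0, 0, 2], 3), ([0, 2, 0, 2, 2], 3), ([0, 2, 2, 0, 2], 3), ([2, 0, 0, 2, 0], 3), ([2, 0, 0, 2, 2], 3),
  ([2, 0, 2, 2, 0], 3), ([2, 2, 0, 2, 2], 3), ([0, 0, 2, 0, 0, 2], 7), ([0, 0, 2, 0, 2, 2], 14),
  ([0, 0, 2, 2, 0, 2], 14), ([0, 2, 0, 0, 2, 0], 7), ([0, 2, 0, 0, 2, 2], 14), ([0, 2, 0, 2, 2, 0], 14),
  ([0, 2, 2, 0, 2, 2], 7), ([2, 0, 0, 2, 0, 0], 7), ([2, 0, 0, 2, 0, 2], 14), ([2, 0, 0, 2, 2, 0], 14),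
  ([2, 0, 2, 2, 0, 2], 7), ([2, 2, 0, 2, 2, 0], 7), ([0, 0, 2, 0, 0, 2, 0], 3), ([0, 0, 2, 0, 0, 2, 2], 3),
  ([0, 0, 2, 0, 2, 2, 0], 3), ([0, 0, 2, 2, 0, 2, 2], 3), ([0, 2, 0, 0, 2, 0, 0], 3), ([0, 2, 0, 0, 2, 0, 2], 3),
  ([0, 2, 0, 0, 2, 2, 0], 3), ([0, 2, 0, 2, 2, 0, 2], 3), ([0, 2, 2, 0, 2, 2, 0], 3), ([2, 0, 0, 2, 0, 0, 2], 3),
  ([2, 0, 0, 2, 0, 2, 2], 3), ([2, 0, 0, 2, 2, 0, 2], 3), ([2, 0, 2, 2, 0, 2, 2], 3), ([2, 2, 0, 2, 2, 0, 2], 3),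
  ([0, 0, 2, 0, 0, 2, 0, 0], 3), ([0, 0, 2, 0, 0, 2, 0, 2], 3), ([0, 0, 2, 0, 0, 2, 2, 0], 3),
  ([0, 0, 2, 0, 2, 2, 0, 2], 3), ([0, 0, 2, 2, 0, 2, 2, 0], 3), ([0, 2, 0, 0, 2, 0, 0, 2], 3),
  ([0, 2, 0, 0, 2, 0, 2, 2], 3), ([0, 2, 0, 0, 2, 2, 0, 2], 3), ([0, 2, 0, 2, 2, 0, 2, 2], 3),
  ([0, 2, 2, 0, 2, 2, 0, 2], 3), ([2, 0, 0, 2, 0, 0, 2, 0], 3), ([2, 0, 0, 2, 0, 0, 2, 2], 3),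
  ([2, 0, 0, 2, 2, 0, 2, 2], 3), ([2, 2, 0, 2, 2, 0, 2, 2], 3), ([0, 0, 2, 0, 0, 2, 0, 0, 2], 14),
  ([0, 0, 2, 0, 0, 2, 0, 2, 2], 14), ([0, 0, 2, 0, 0, 2, 2, 0, 2], 2), ([0, 0, 2, 0, 2, 2, 0, 2, 2], 2),
  ([0, 0, 2, 2, 0, 2, 2, 0, 2], 14), ([0, 2, 0, 0, 2, 0, 0, 2, 0], 14), ([0, 2, 0, 0, 2, 0, 0, 2, 2], 2),
  ([0, 2, 0, 0, 2, 2, 0, 2, 2], 14), ([0, 2, 2, 0, 2, 2, 0, 2, 2], 14), ([0, 0, 2, 0, 0, 2, 0, 0, 2, 0], 3),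
  ([0, 0, 2, 0, 0, 2, 0, 0, 2, 2], 3), ([0, 0, 2, 0, 0, 2, 2, 0, 2, 2], 3), ([0, 0, 2, 2, 0, 2, 2, 0, 2, 2], 3)]

theorem eG4 : enumC γG4 dG4 = true := by decide +kernel

theorem sG4 : solvC [([775628046757748864360103710818, 775628046757750092479358700609], [[], [0], [1], [2], [1, 3]]),
    ([], [[]])] γG4 = true := by decide +kernel

def γG5 : List ℕ := [775628046719672089429014675490, 775628046757751115025172532289]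

def dG5 : List (List ℕ × ℕ) := [
  ([], 1), ([0], 4), ([2], 21), ([0, 0], 2), ([0, 2], 4), ([2, 0], 4), ([2, 2], 21), ([0, 0, 0], 4),
  ([0, 0, 2], 42), ([0, 2, 0], 42), ([0, 2, 2], 4), ([2, 2, 0], 4), ([2, 2, 2], 7), ([0, 0, 0, 2], 4),
  ([0, 0, 2, 0], 4), ([0, 0, 2, 2], 42), ([0, 2, 2, 0], 42), ([0, 2, 2, 2], 4), ([2, 2, 2, 0], 4),
  ([2, 2, 2, 2], 21), ([0, 0, 0, 2, 0], 21), ([0, 0, 0, 2, 2], 4), ([0, 0, 2, 2, 0], 4), ([0, 0, 2, 2, 2], 14),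
  ([0, 2, 2, 2, 0], 14), ([0, 2, 2, 2, 2], 4), ([2, 2, 2, 2, 0], 4), ([2, 2, 2, 2, 2], 21),
  ([0, 0, 0, 2, 2, 0], 21), ([0, 0, 0, 2, 2, 2], 4), ([0, 0, 2, 2, 2, 0], 4), ([0, 0, 2, 2, 2, 2], 42),
  ([0, 2, 2, 2, 2, 0], 42), ([0, 2, 2, 2, 2, 2], 4), ([2, 2, 2, 2, 2, 0], 4), ([2, 2, 2, 2, 2, 2], 7),
  ([0, 0, 0, 2, 2, 2, 0], 7), ([0, 0, 0, 2, 2, 2, 2], 4), ([0, 0, 2, 2, 2, 2, 0], 4),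
  ([0, 0, 2, 2, 2, 2, 2], 42), ([0, 2, 2, 2, 2, 2, 0], 42), ([0, 2, 2, 2, 2, 2, 2], 4),
  ([2, 2, 2, 2, 2, 2, 0], 4), ([2, 2, 2, 2, 2, 2, 2], 3), ([0, 0, 0, 2, 2, 2, 2, 0], 21),
  ([0, 0, 0, 2, 2, 2, 2, 2], 4), ([0, 0, 2, 2, 2, 2, 2, 0], 4), ([0, 0, 2, 2, 2, 2, 2, 2], 14),
  ([0, 2, 2, 2, 2, 2, 2, 0], 14), ([0, 2, 2, 2, 2, 2, 2, 2], 4), ([2, 2, 2, 2, 2, 2, 2, 0], 4),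
  ([2, 2, 2, 2, 2, 2, 2, 2], 21), ([0, 0, 0, 2, 2, 2, 2, 2, 0], 21), ([0, 0, 0, 2, 2, 2, 2, 2, 2], 4),
  ([0, 0, 2, 2, 2, 2, 2, 2, 0], 4), ([0, 0, 2, 2, 2, 2, 2, 2, 2], 6), ([0, 2, 2, 2, 2, 2, 2, 2, 0], 6),
  ([0, 2, 2, 2, 2, 2, 2, 2, 2], 4), ([2, 2, 2, 2, 2, 2, 2, 2, 0], 4), ([2, 2, 2, 2, 2, 2, 2, 2, 2], 7),
  ([0, 0, 0, 2, 2, 2, 2, 2, 2, 0], 7), ([0, 0, 0, 2, 2, 2, 2, 2, 2, 2], 4), ([0, 0, 2, 2, 2, 2, 2, 2, 2, 0], 4),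
  ([0, 0, 2, 2, 2, 2, 2, 2, 2, 2], 42), ([0, 2, 2, 2, 2, 2, 2, 2, 2, 0], 42),
  ([0, 2, 2, 2, 2, 2, 2, 2, 2, 2], 4), ([2, 2, 2, 2, 2, 2, 2, 2, 2, 0], 4), ([2, 2, 2, 2, 2, 2, 2, 2, 2, 2], 21),
  ([0, 0, 0, 2, 2, 2, 2, 2, 2, 2, 0], 3), ([0, 0, 0, 2, 2, 2, 2, 2, 2, 2, 2], 4),
  ([0, 0, 2, 2, 2, 2, 2, 2, 2, 2, 0], 4), ([0, 0, 2, 2, 2, 2, 2, 2, 2, 2, 2], 14),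
  ([0, 2, 2, 2, 2, 2, 2, 2, 2, 2, 0], 14), ([0, 2, 2, 2, 2, 2, 2, 2, 2, 2, 2], 4),
  ([2, 2, 2, 2, 2, 2, 2, 2, 2, 2, 0], 4), ([2, 2, 2, 2, 2, 2, 2, 2, 2, 2, 2], 21),
  ([0, 0, 0, 2, 2, 2, 2, 2, 2, 2, 2, 0], 21), ([0, 0, 0, 2, 2, 2, 2, 2, 2, 2, 2, 2], 4),
  ([0, 0, 2, 2, 2, 2, 2, 2, 2, 2, 2, 0], 4), ([0, 0, 2, 2, 2, 2, 2, 2, 2, 2, 2, 2], 42),
  ([0, 2, 2, 2, 2, 2, 2, 2, 2, 2, 2, 0], 42), ([2, 2, 2, 2, 2, 2, 2, 2, 2, 2, 2, 2], 7),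
  ([0, 0, 0, 2, 2, 2, 2, 2, 2, 2, 2, 2, 2], 4), ([0, 0, 2, 2, 2, 2, 2, 2, 2, 2, 2, 2, 0], 4)]

theorem eG5 : enumC γG5 dG5 = true := by decide +kernel

theorem sG5 : solvC [([775628046757751115029363589317], [[], [0], [1]]),
    ([], [[]])] γG5 = true := by decide +kernel

def γG6 : List ℕ := [775628046757751184266314813538, 775628046757751184225519899778]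

def dG6 : List (List ℕ × ℕ) := [
  ([], 1), ([0], 3), ([2], 7), ([0, 0], 3), ([0, 2], 6), ([2, 0], 6), ([2, 2], 7), ([0, 0, 2], 3),
  ([0, 2, 0], 3), ([0, 2, 2], 6), ([2, 0, 0], 3), ([2, 0, 2], 6), ([2, 2, 0], 6), ([2, 2, 2], 7),
  ([0, 0, 2, 0], 7), ([0, 0, 2, 2], 6), ([0, 2, 0, 0], 7), ([0, 2, 0, 2], 3), ([0, 2, 2, 0], 6),
  ([0, 2, 2, 2], 6), ([2, 0, 0, 2], 6), ([2, 0, 2, 0], 3), ([2, 0, 2, 2], 6), ([2, 2, 0, 0], 6),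
  ([2, 2, 0, 2], 6), ([2, 2, 2, 0], 6), ([2, 2, 2, 2], 7), ([0, 0, 2, 0, 0], 6), ([0, 0, 2, 0, 2], 7),
  ([0, 0, 2, 2, 0], 7), ([0, 0, 2, 2, 2], 3), ([0, 2, 0, 0, 2], 7), ([0, 2, 0, 2, 0], 7), ([0, 2, 0, 2, 2], 3),
  ([0, 2, 2, 0, 0], 7), ([0, 2, 2, 0, 2], 3), ([0, 2, 2, 2, 0], 3), ([0, 2, 2, 2, 2], 3), ([2, 0, 0, 2, 0], 7),
  ([2, 0, 0, 2, 2], 3), ([2, 0, 2, 0, 0], 7), ([2, 0, 2, 0, 2], 3), ([2, 0, 2, 2, 0], 3), ([2, 0, 2, 2, 2], 3),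
  ([2, 2, 0, 0, 2], 3), ([2, 2, 0, 2, 2], 3), ([2, 2, 2, 0, 0], 3), ([2, 2, 2, 0, 2], 3), ([2, 2, 2, 2, 0], 3),
  ([2, 2, 2, 2, 2], 7), ([0, 0, 2, 0, 0, 2], 3), ([0, 0, 2, 0, 2, 0], 6), ([0, 0, 2, 0, 2, 2], 7),
  ([0, 0, 2, 2, 0, 0], 6), ([0, 0, 2, 2, 2, 0], 7), ([0, 0, 2, 2, 2, 2], 6), ([0, 2, 0, 0, 2, 0], 3),
  ([0, 2, 0, 0, 2, 2], 7), ([0, 2, 0, 2, 0, 2], 2), ([0, 2, 0, 2, 2, 0], 7), ([0, 2, 0, 2, 2, 2], 3),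
  ([0, 2, 2, 0, 0, 2], 7), ([0, 2, 2, 0, 2, 2], 3), ([0, 2, 2, 2, 0, 0], 7), ([0, 2, 2, 2, 0, 2], 3),
  ([0, 2, 2, 2, 2, 0], 6), ([0, 2, 2, 2, 2, 2], 6), ([2, 0, 0, 2, 0, 0], 3), ([2, 0, 0, 2, 0, 2], 7),
  ([2, 0, 0, 2, 2, 0], 7), ([2, 0, 0, 2, 2, 2], 6), ([2, 0, 2, 0, 0, 2], 7), ([2, 0, 2, 0, 2, 0], 2),
  ([2, 0, 2, 0, 2, 2], 3), ([2, 0, 2, 2, 0, 0], 7), ([2, 0, 2, 2, 0, 2], 3), ([2, 0, 2, 2, 2, 0], 3),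
  ([2, 2, 0, 0, 2, 0], 7), ([2, 2, 0, 0, 2, 2], 6), ([2, 2, 0, 2, 2, 0], 3), ([2, 2, 0, 2, 2, 2], 6),
  ([2, 2, 2, 0, 0, 2], 6), ([2, 2, 2, 2, 0, 0], 6), ([2, 2, 2, 2, 0, 2], 6), ([2, 2, 2, 2, 2, 0], 6),
  ([2, 2, 2, 2, 2, 2], 7), ([0, 0, 2, 0, 0, 2, 0], 6), ([0, 0, 2, 0, 0, 2, 2], 3), ([0, 0, 2, 0, 2, 0, 2], 3),
  ([0, 0, 2, 0, 2, 2, 0], 6), ([0, 0, 2, 2, 0, 0, 2], 3), ([0, 0, 2, 2, 2, 0, 0], 6), ([0, 0, 2, 2, 2, 0, 2], 2),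
  ([0, 0, 2, 2, 2, 2, 0], 7), ([0, 0, 2, 2, 2, 2, 2], 6), ([0, 2, 0, 0, 2, 0, 0], 6), ([0, 2, 0, 0, 2, 0, 2], 3),
  ([0, 2, 0, 0, 2, 2, 2], 2), ([0, 2, 0, 2, 0, 2, 0], 3), ([0, 2, 0, 2, 0, 2, 2], 7), ([0, 2, 0, 2, 2, 0, 2], 7),
  ([0, 2, 0, 2, 2, 2, 0], 7), ([0, 2, 2, 0, 0, 2, 0], 3), ([0, 2, 2, 0, 0, 2, 2], 7), ([0, 2, 2, 0, 2, 2, 0], 7),
  ([0, 2, 2, 0, 2, 2, 2], 6), ([0, 2, 2, 2, 0, 0, 2], 7), ([0, 2, 2, 2, 2, 0, 0], 7), ([0, 2, 2, 2, 2, 0, 2], 3),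
  ([0, 2, 2, 2, 2, 2, 0], 6), ([2, 0, 0, 2, 0, 2, 0], 3), ([2, 0, 0, 2, 2, 0, 0], 3), ([2, 0, 0, 2, 2, 2, 0], 2),
  ([2, 0, 0, 2, 2, 2, 2], 6), ([2, 0, 2, 0, 0, 2, 0], 3), ([2, 0, 2, 0, 0, 2, 2], 2), ([2, 0, 2, 0, 2, 0, 2], 7),
  ([2, 0, 2, 2, 2, 0, 2], 6), ([2, 2, 0, 0, 2, 0, 0], 3), ([2, 2, 0, 0, 2, 0, 2], 7), ([2, 2, 0, 0, 2, 2, 0], 7),
  ([2, 2, 0, 0, 2, 2, 2], 6), ([2, 2, 0, 2, 2, 0, 0], 7), ([2, 2, 0, 2, 2, 0, 2], 6), ([2, 2, 2, 0, 0, 2, 0], 7),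
  ([2, 2, 2, 0, 0, 2, 2], 6), ([2, 2, 2, 2, 0, 0, 2], 6), ([2, 2, 2, 2, 2, 0, 0], 6),
  ([0, 0, 2, 0, 0, 2, 0, 2], 3), ([0, 0, 2, 0, 0, 2, 2, 2], 6), ([0, 0, 2, 0, 2, 0, 2, 0], 3),
  ([0, 0, 2, 0, 2, 2, 0, 2], 3), ([0, 0, 2, 2, 0, 0, 2, 0], 3), ([0, 0, 2, 2, 0, 0, 2, 2], 3),
  ([0, 0, 2, 2, 2, 0, 0, 2], 6), ([0, 0, 2, 2, 2, 2, 0, 0], 3), ([0, 0, 2, 2, 2, 2, 2, 0], 7),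
  ([0, 2, 0, 0, 2, 0, 2, 0], 3), ([0, 2, 0, 0, 2, 2, 2, 0], 6), ([0, 2, 0, 0, 2, 2, 2, 2], 7),
  ([0, 2, 0, 2, 0, 2, 0, 2], 3), ([0, 2, 0, 2, 2, 2, 0, 2], 7), ([0, 2, 2, 0, 0, 2, 0, 2], 3),
  ([0, 2, 2, 0, 0, 2, 2, 0], 3), ([0, 2, 2, 0, 0, 2, 2, 2], 7), ([0, 2, 2, 0, 2, 2, 0, 0], 3),
  ([0, 2, 2, 2, 0, 0, 2, 0], 6), ([0, 2, 2, 2, 2, 0, 0, 2], 7), ([0, 2, 2, 2, 2, 2, 0, 0], 7),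
  ([2, 0, 0, 2, 2, 0, 0, 2], 3), ([2, 0, 0, 2, 2, 2, 0, 0], 6), ([2, 0, 0, 2, 2, 2, 2, 0], 7),
  ([2, 0, 0, 2, 2, 2, 2, 2], 6), ([2, 0, 2, 0, 0, 2, 0, 0], 3), ([2, 0, 2, 0, 0, 2, 2, 2], 7),
  ([2, 0, 2, 0, 2, 0, 2, 0], 3), ([2, 0, 2, 0, 2, 0, 2, 2], 7), ([2, 2, 0, 0, 2, 2, 2, 2], 6),
  ([2, 2, 2, 0, 0, 2, 0, 0], 6), ([2, 2, 2, 0, 0, 2, 2, 0], 2), ([2, 2, 2, 2, 2, 0, 0, 2], 6),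
  ([0, 0, 2, 0, 0, 2, 2, 2, 2], 6), ([0, 0, 2, 0, 2, 0, 2, 0, 2], 6), ([0, 0, 2, 2, 0, 0, 2, 0, 2], 6),
  ([0, 0, 2, 2, 0, 0, 2, 2, 2], 6), ([0, 0, 2, 2, 2, 2, 2, 0, 0], 6), ([0, 2, 0, 0, 2, 2, 2, 2, 0], 6),
  ([0, 2, 0, 2, 0, 2, 0, 2, 0], 6)]

theorem eG6 : enumC γG6 dG6 = true := by decide +kernel

theorem sG6 : solvC [([775628046757751184060260031650, 775628046757751184126897100000], [[], [0], [1], [2], [0, 0, 3], [1, 1, 1], [1, 3, 3]]),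
    ([775628046757751184020464604359, 775628046757751184162336801859, 775628046757751184195655336034], [[], [0], [2], [4], [0, 4]]),
    ([], [[]])] γG6 = true := by decide +kernel

def γG7 : List ℕ := [697669183085850993783719761952, 774426376704360074678428109856]

def dG7 : List (List ℕ × ℕ) := [
  ([], 1), ([0], 12), ([2], 14), ([0, 0], 6), ([0, 2], 2), ([2, 0], 2), ([2, 2], 7), ([0, 0, 0], 4),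
  ([0, 0, 2], 14), ([0, 2, 0], 14), ([0, 2, 2], 12), ([2, 0, 0], 14), ([2, 0, 2], 12), ([2, 2, 0], 12),
  ([2, 2, 2], 14), ([0, 0, 0, 0], 3), ([0, 0, 0, 2], 2), ([0, 0, 2, 0], 2), ([0, 0, 2, 2], 42),
  ([0, 2, 0, 0], 2), ([0, 2, 2, 0], 42), ([0, 2, 2, 2], 2), ([2, 0, 0, 0], 2), ([2, 0, 0, 2], 42),
  ([2, 2, 2, 0], 2), ([2, 2, 2, 2], 7), ([0, 0, 0, 0, 0], 12), ([0, 0, 0, 0, 2], 14), ([0, 0, 0, 2, 0], 14),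
  ([0, 0, 0, 2, 2], 4), ([0, 0, 2, 2, 0], 4), ([0, 0, 2, 2, 2], 14), ([0, 2, 0, 0, 0], 14),
  ([0, 2, 0, 0, 2], 12), ([0, 2, 2, 2, 0], 14), ([0, 2, 2, 2, 2], 12), ([2, 0, 0, 0, 0], 14),
  ([2, 0, 0, 0, 2], 4), ([2, 0, 0, 2, 0], 12), ([2, 0, 0, 2, 2], 14), ([2, 2, 2, 2, 0], 12),
  ([2, 2, 2, 2, 2], 14), ([0, 0, 0, 0, 0, 0], 2), ([0, 0, 0, 0, 0, 2], 2), ([0, 0, 0, 0, 2, 0], 2),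
  ([0, 0, 0, 0, 2, 2], 21), ([0, 0, 0, 2, 2, 0], 21), ([0, 0, 0, 2, 2, 2], 2), ([0, 0, 2, 2, 2, 0], 2),
  ([0, 0, 2, 2, 2, 2], 42), ([0, 2, 0, 0, 0, 0], 2), ([0, 2, 0, 0, 0, 2], 6), ([0, 2, 0, 0, 2, 0], 7),
  ([0, 2, 0, 0, 2, 2], 2), ([0, 2, 2, 2, 2, 0], 42), ([0, 2, 2, 2, 2, 2], 2), ([2, 0, 0, 0, 0, 0], 2),
  ([2, 0, 0, 0, 0, 2], 21), ([2, 0, 0, 2, 2, 0], 2), ([2, 0, 0, 2, 2, 2], 42), ([2, 2, 2, 2, 2, 0], 2),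
  ([2, 2, 2, 2, 2, 2], 7), ([0, 0, 0, 0, 0, 0, 0], 12), ([0, 0, 0, 0, 0, 0, 2], 14), ([0, 0, 0, 0, 0, 2, 0], 14),
  ([0, 0, 0, 0, 0, 2, 2], 12), ([0, 0, 0, 0, 2, 2, 0], 12), ([0, 0, 0, 0, 2, 2, 2], 14),
  ([0, 0, 0, 2, 2, 2, 0], 14), ([0, 0, 0, 2, 2, 2, 2], 4), ([0, 0, 2, 2, 2, 2, 0], 4),
  ([0, 0, 2, 2, 2, 2, 2], 14), ([0, 2, 0, 0, 0, 0, 0], 14), ([0, 2, 0, 0, 0, 0, 2], 4),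
  ([0, 2, 0, 0, 2, 2, 0], 14), ([0, 2, 0, 0, 2, 2, 2], 12), ([0, 2, 2, 2, 2, 2, 0], 14),
  ([0, 2, 2, 2, 2, 2, 2], 12), ([2, 0, 0, 0, 0, 2, 0], 4), ([2, 0, 0, 0, 0, 2, 2], 14),
  ([2, 0, 0, 2, 2, 2, 0], 12), ([2, 0, 0, 2, 2, 2, 2], 14), ([2, 2, 2, 2, 2, 2, 0], 12),
  ([2, 2, 2, 2, 2, 2, 2], 2), ([0, 0, 0, 0, 0, 0, 0, 0], 3), ([0, 0, 0, 0, 0, 0, 0, 2], 2),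
  ([0, 0, 0, 0, 0, 0, 2, 0], 2), ([0, 0, 0, 0, 0, 0, 2, 2], 14), ([0, 0, 0, 0, 0, 2, 2, 0], 14),
  ([0, 0, 0, 0, 0, 2, 2, 2], 2), ([0, 0, 0, 0, 2, 2, 2, 0], 2), ([0, 0, 0, 0, 2, 2, 2, 2], 21),
  ([0, 0, 0, 2, 2, 2, 2, 0], 21), ([0, 0, 0, 2, 2, 2, 2, 2], 2), ([0, 0, 2, 2, 2, 2, 2, 0], 2),
  ([0, 0, 2, 2, 2, 2, 2, 2], 42), ([0, 2, 0, 0, 0, 0, 2, 0], 42), ([0, 2, 0, 0, 0, 0, 2, 2], 2),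
  ([0, 2, 0, 0, 2, 2, 2, 0], 7), ([0, 2, 0, 0, 2, 2, 2, 2], 2), ([0, 2, 2, 2, 2, 2, 2, 0], 42),
  ([0, 2, 2, 2, 2, 2, 2, 2], 2), ([2, 0, 0, 0, 0, 2, 2, 0], 2), ([2, 0, 0, 0, 0, 2, 2, 2], 21),
  ([2, 0, 0, 2, 2, 2, 2, 0], 2), ([2, 0, 0, 2, 2, 2, 2, 2], 42), ([2, 2, 2, 2, 2, 2, 2, 0], 2),
  ([2, 2, 2, 2, 2, 2, 2, 2], 7), ([0, 0, 0, 0, 0, 0, 0, 2, 0], 14), ([0, 0, 0, 0, 0, 0, 0, 2, 2], 12),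
  ([0, 0, 0, 0, 0, 0, 2, 2, 0], 12), ([0, 0, 0, 0, 0, 0, 2, 2, 2], 14), ([0, 0, 0, 0, 0, 2, 2, 2, 0], 14),
  ([0, 0, 0, 0, 0, 2, 2, 2, 2], 12), ([0, 0, 0, 0, 2, 2, 2, 2, 0], 12), ([0, 0, 0, 0, 2, 2, 2, 2, 2], 14),
  ([0, 0, 0, 2, 2, 2, 2, 2, 0], 14), ([0, 0, 0, 2, 2, 2, 2, 2, 2], 4), ([0, 0, 2, 2, 2, 2, 2, 2, 0], 4),
  ([0, 0, 2, 2, 2, 2, 2, 2, 2], 2), ([0, 2, 0, 0, 0, 0, 2, 2, 0], 14), ([0, 2, 0, 0, 0, 0, 2, 2, 2], 4),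
  ([0, 2, 0, 0, 2, 2, 2, 2, 0], 14), ([0, 2, 0, 0, 2, 2, 2, 2, 2], 12), ([2, 0, 0, 0, 0, 2, 2, 2, 0], 4),
  ([2, 0, 0, 0, 0, 2, 2, 2, 2], 14), ([2, 0, 0, 2, 2, 2, 2, 2, 0], 12), ([2, 0, 0, 2, 2, 2, 2, 2, 2], 2),
  ([0, 0, 0, 0, 0, 0, 0, 2, 2, 0], 21), ([0, 0, 0, 0, 0, 0, 0, 2, 2, 2], 2), ([0, 0, 0, 0, 0, 0, 2, 2, 2, 0], 2),
  ([0, 0, 0, 0, 0, 0, 2, 2, 2, 2], 14), ([0, 0, 0, 0, 0, 2, 2, 2, 2, 0], 14),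
  ([0, 0, 0, 0, 0, 2, 2, 2, 2, 2], 2), ([0, 0, 0, 0, 2, 2, 2, 2, 2, 0], 2), ([0, 0, 0, 0, 2, 2, 2, 2, 2, 2], 21),
  ([0, 0, 0, 2, 2, 2, 2, 2, 2, 0], 21), ([0, 0, 0, 2, 2, 2, 2, 2, 2, 2], 2),
  ([0, 2, 0, 0, 0, 0, 2, 2, 2, 0], 42), ([0, 2, 0, 0, 0, 0, 2, 2, 2, 2], 2), ([2, 0, 0, 0, 0, 2, 2, 2, 2, 0], 2),
  ([2, 0, 0, 0, 0, 2, 2, 2, 2, 2], 21), ([2, 0, 0, 2, 2, 2, 2, 2, 2, 0], 2),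
  ([2, 0, 0, 2, 2, 2, 2, 2, 2, 2], 42), ([0, 0, 0, 0, 0, 0, 0, 2, 2, 2, 0], 14),
  ([0, 0, 0, 0, 0, 0, 0, 2, 2, 2, 2], 12), ([0, 0, 0, 0, 0, 0, 2, 2, 2, 2, 0], 12),
  ([0, 0, 0, 0, 0, 0, 2, 2, 2, 2, 2], 14), ([0, 0, 0, 0, 0, 2, 2, 2, 2, 2, 0], 14),
  ([0, 0, 0, 0, 0, 2, 2, 2, 2, 2, 2], 12), ([0, 0, 0, 0, 2, 2, 2, 2, 2, 2, 0], 12),
  ([0, 0, 0, 0, 2, 2, 2, 2, 2, 2, 2], 2), ([0, 2, 0, 0, 0, 0, 2, 2, 2, 2, 0], 14),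
  ([0, 2, 0, 0, 0, 0, 2, 2, 2, 2, 2], 4), ([2, 0, 0, 0, 0, 2, 2, 2, 2, 2, 0], 4),
  ([2, 0, 0, 0, 0, 2, 2, 2, 2, 2, 2], 2), ([0, 0, 0, 0, 0, 0, 0, 2, 2, 2, 2, 0], 21),
  ([0, 0, 0, 0, 0, 0, 0, 2, 2, 2, 2, 2], 2), ([0, 0, 0, 0, 0, 0, 2, 2, 2, 2, 2, 0], 2),
  ([0, 0, 0, 0, 0, 0, 2, 2, 2, 2, 2, 2], 14), ([0, 0, 0, 0, 0, 2, 2, 2, 2, 2, 2, 0], 14),
  ([0, 0, 0, 0, 0, 2, 2, 2, 2, 2, 2, 2], 2), ([2, 0, 0, 0, 0, 2, 2, 2, 2, 2, 2, 0], 2),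
  ([2, 0, 0, 0, 0, 2, 2, 2, 2, 2, 2, 2], 21), ([0, 0, 0, 0, 0, 0, 0, 2, 2, 2, 2, 2, 0], 14),
  ([0, 0, 0, 0, 0, 0, 0, 2, 2, 2, 2, 2, 2], 12), ([0, 0, 0, 0, 0, 0, 2, 2, 2, 2, 2, 2, 0], 12),
  ([0, 0, 0, 0, 0, 0, 2, 2, 2, 2, 2, 2, 2], 2)]

theorem eG7 : enumC γG7 dG7 = true := by decide +kernel

theorem sG7 : solvC [([734848405029603068930955680800], [[], [0], [1], [0, 0, 0, 0, 0, 0, 0, 0, 0, 0, 0, 0, 0], [1, 1, 1, 1, 1, 1, 1, 1, 1, 1, 1, 1, 1]]),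
    ([], [[]])] γG7 = true := by decide +kernel

def γG8 : List ℕ := [775628038531693439908543795393, 775628044251297724385585076320]

def dG8 : List (List ℕ × ℕ) := [
  ([], 1), ([0], 24), ([2], 6), ([0, 0], 12), ([0, 2], 28), ([2, 0], 28), ([2, 2], 3), ([0, 0, 0], 8),
  ([0, 0, 2], 6), ([0, 2, 0], 6), ([0, 2, 2], 24), ([2, 0, 0], 6), ([2, 0, 2], 24), ([2, 2, 0], 24),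
  ([2, 2, 2], 2), ([0, 0, 0, 0], 6), ([0, 0, 0, 2], 12), ([0, 0, 2, 0], 12), ([0, 0, 2, 2], 28),
  ([0, 2, 0, 0], 12), ([0, 2, 0, 2], 14), ([0, 2, 2, 0], 28), ([0, 2, 2, 2], 12), ([2, 0, 0, 0], 12),
  ([2, 0, 0, 2], 28), ([2, 0, 2, 0], 14), ([2, 0, 2, 2], 12), ([2, 2, 0, 0], 28), ([2, 2, 0, 2], 12),
  ([2, 2, 2, 0], 12), ([2, 2, 2, 2], 3), ([0, 0, 0, 0, 0], 24), ([0, 0, 0, 0, 2], 2), ([0, 0, 0, 2, 0], 2),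
  ([0, 0, 0, 2, 2], 24), ([0, 0, 2, 0, 0], 2), ([0, 0, 2, 0, 2], 24), ([0, 0, 2, 2, 0], 24),
  ([0, 0, 2, 2, 2], 6), ([0, 2, 0, 0, 0], 2), ([0, 2, 0, 0, 2], 24), ([0, 2, 0, 2, 0], 24), ([0, 2, 0, 2, 2], 6),
  ([0, 2, 2, 0, 0], 24), ([0, 2, 2, 0, 2], 6), ([0, 2, 2, 2, 0], 6), ([0, 2, 2, 2, 2], 8), ([2, 0, 0, 0, 0], 2),
  ([2, 0, 0, 0, 2], 24), ([2, 0, 0, 2, 0], 24), ([2, 0, 0, 2, 2], 6), ([2, 0, 2, 0, 0], 24),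
  ([2, 0, 2, 0, 2], 6), ([2, 0, 2, 2, 0], 6), ([2, 2, 0, 0, 0], 24), ([2, 2, 0, 0, 2], 6), ([2, 2, 0, 2, 0], 6),
  ([2, 2, 0, 2, 2], 8), ([2, 2, 2, 0, 0], 6), ([2, 2, 2, 0, 2], 8), ([2, 2, 2, 2, 0], 8), ([2, 2, 2, 2, 2], 6),
  ([0, 0, 0, 0, 0, 0], 4), ([0, 0, 0, 0, 0, 2], 12), ([0, 0, 0, 0, 2, 0], 12), ([0, 0, 0, 0, 2, 2], 6),
  ([0, 0, 0, 2, 0, 0], 12), ([0, 0, 0, 2, 0, 2], 12), ([0, 0, 0, 2, 2, 0], 6), ([0, 0, 2, 0, 0, 0], 12),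
  ([0, 0, 2, 0, 0, 2], 3), ([0, 0, 2, 0, 2, 0], 12), ([0, 0, 2, 0, 2, 2], 28), ([0, 0, 2, 2, 0, 0], 6),
  ([0, 0, 2, 2, 0, 2], 4), ([0, 0, 2, 2, 2, 0], 28), ([0, 0, 2, 2, 2, 2], 12), ([0, 2, 0, 0, 0, 0], 12),
  ([0, 2, 0, 0, 0, 2], 12), ([0, 2, 0, 0, 2, 0], 3), ([0, 2, 0, 0, 2, 2], 4), ([0, 2, 0, 2, 0, 0], 12),
  ([0, 2, 0, 2, 0, 2], 28), ([0, 2, 0, 2, 2, 0], 28), ([0, 2, 2, 0, 0, 0], 6), ([0, 2, 2, 0, 0, 2], 28),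
  ([0, 2, 2, 0, 2, 0], 4), ([0, 2, 2, 0, 2, 2], 12), ([0, 2, 2, 2, 0, 0], 28), ([0, 2, 2, 2, 0, 2], 6),
  ([0, 2, 2, 2, 2, 0], 12), ([0, 2, 2, 2, 2, 2], 12), ([2, 0, 0, 0, 0, 0], 12), ([2, 0, 0, 0, 0, 2], 6),
  ([2, 0, 0, 0, 2, 0], 12), ([2, 0, 0, 0, 2, 2], 28), ([2, 0, 0, 2, 0, 0], 3), ([2, 0, 0, 2, 2, 0], 4),
  ([2, 0, 0, 2, 2, 2], 12), ([2, 0, 2, 0, 0, 0], 12), ([2, 0, 2, 0, 2, 0], 28), ([2, 0, 2, 0, 2, 2], 6),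
  ([2, 0, 2, 2, 0, 2], 12), ([2, 2, 0, 0, 0, 0], 6), ([2, 2, 0, 0, 0, 2], 28), ([2, 2, 0, 0, 2, 0], 28),
  ([2, 2, 0, 0, 2, 2], 12), ([2, 2, 0, 2, 0, 2], 6), ([2, 2, 0, 2, 2, 0], 12), ([2, 2, 2, 0, 0, 0], 28),
  ([2, 2, 2, 0, 0, 2], 12), ([2, 2, 2, 0, 2, 0], 6), ([2, 2, 2, 0, 2, 2], 12), ([2, 2, 2, 2, 0, 0], 12),
  ([2, 2, 2, 2, 0, 2], 12), ([2, 2, 2, 2, 2, 0], 12), ([0, 0, 0, 0, 0, 0, 0], 24), ([0, 0, 0, 0, 0, 0, 2], 6),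
  ([0, 0, 0, 0, 0, 2, 0], 6), ([0, 0, 0, 0, 0, 2, 2], 8), ([0, 0, 0, 0, 2, 0, 0], 6), ([0, 0, 0, 0, 2, 0, 2], 8),
  ([0, 0, 0, 0, 2, 2, 0], 8), ([0, 0, 0, 2, 0, 0, 0], 6), ([0, 0, 0, 2, 0, 0, 2], 8), ([0, 0, 0, 2, 0, 2, 0], 8),
  ([0, 0, 0, 2, 0, 2, 2], 6), ([0, 0, 0, 2, 2, 0, 0], 8), ([0, 0, 0, 2, 2, 0, 2], 6), ([0, 0, 2, 0, 0, 0, 0], 6),
  ([0, 0, 2, 0, 0, 0, 2], 8), ([0, 0, 2, 0, 0, 2, 0], 8), ([0, 0, 2, 0, 0, 2, 2], 6), ([0, 0, 2, 0, 2, 0, 0], 8),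
  ([0, 0, 2, 0, 2, 0, 2], 6), ([0, 0, 2, 0, 2, 2, 0], 6), ([0, 0, 2, 2, 0, 0, 0], 8), ([0, 0, 2, 2, 0, 0, 2], 6),
  ([0, 0, 2, 2, 0, 2, 0], 6), ([0, 0, 2, 2, 0, 2, 2], 24), ([0, 0, 2, 2, 2, 0, 0], 6),
  ([0, 0, 2, 2, 2, 0, 2], 24), ([0, 0, 2, 2, 2, 2, 0], 24), ([0, 0, 2, 2, 2, 2, 2], 2),
  ([0, 2, 0, 0, 0, 0, 0], 6), ([0, 2, 0, 0, 0, 0, 2], 8), ([0, 2, 0, 0, 0, 2, 0], 8), ([0, 2, 0, 0, 0, 2, 2], 6),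
  ([0, 2, 0, 0, 2, 2, 0], 6), ([0, 2, 0, 0, 2, 2, 2], 24), ([0, 2, 0, 2, 0, 0, 0], 8),
  ([0, 2, 0, 2, 0, 2, 0], 6), ([0, 2, 0, 2, 0, 2, 2], 24), ([0, 2, 0, 2, 2, 0, 2], 24),
  ([0, 2, 2, 0, 0, 0, 0], 8), ([0, 2, 2, 0, 0, 0, 2], 6), ([0, 2, 2, 0, 0, 2, 0], 6),
  ([0, 2, 2, 0, 0, 2, 2], 24), ([0, 2, 2, 0, 2, 0, 2], 24), ([0, 2, 2, 0, 2, 2, 0], 24),
  ([0, 2, 2, 2, 0, 0, 0], 6), ([0, 2, 2, 2, 0, 0, 2], 24), ([0, 2, 2, 2, 0, 2, 0], 24),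
  ([0, 2, 2, 2, 0, 2, 2], 2), ([0, 2, 2, 2, 2, 0, 0], 24), ([0, 2, 2, 2, 2, 0, 2], 2),
  ([0, 2, 2, 2, 2, 2, 0], 2), ([2, 0, 0, 0, 0, 0, 0], 6), ([2, 0, 0, 0, 0, 2, 2], 6), ([2, 0, 0, 0, 2, 0, 0], 8),
  ([2, 0, 0, 2, 0, 0, 0], 8), ([2, 0, 0, 2, 2, 0, 2], 24), ([2, 0, 0, 2, 2, 2, 2], 2),
  ([2, 0, 2, 0, 0, 0, 0], 8), ([2, 0, 2, 0, 0, 0, 2], 6), ([2, 0, 2, 0, 2, 0, 0], 6),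
  ([2, 0, 2, 0, 2, 0, 2], 24), ([2, 0, 2, 0, 2, 2, 0], 24), ([2, 0, 2, 2, 0, 2, 2], 2),
  ([2, 2, 0, 0, 0, 0, 0], 8), ([2, 2, 0, 0, 0, 0, 2], 6), ([2, 2, 0, 0, 2, 0, 0], 6), ([2, 2, 0, 0, 2, 2, 2], 2),
  ([2, 2, 0, 2, 0, 2, 0], 24), ([2, 2, 0, 2, 0, 2, 2], 2), ([2, 2, 0, 2, 2, 0, 2], 2),
  ([2, 2, 2, 0, 0, 0, 2], 24), ([2, 2, 2, 0, 0, 2, 0], 24), ([2, 2, 2, 0, 0, 2, 2], 2),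
  ([2, 2, 2, 0, 2, 2, 0], 2), ([2, 2, 2, 2, 0, 0, 2], 2), ([2, 2, 2, 2, 0, 2, 0], 2),
  ([2, 2, 2, 2, 0, 2, 2], 24), ([2, 2, 2, 2, 2, 0, 0], 2), ([0, 0, 0, 0, 0, 0, 0, 0], 3),
  ([0, 0, 0, 0, 0, 0, 0, 2], 28), ([0, 0, 0, 0, 0, 0, 2, 0], 28), ([0, 0, 0, 0, 0, 0, 2, 2], 12),
  ([0, 0, 0, 0, 0, 2, 0, 0], 28), ([0, 0, 0, 0, 0, 2, 0, 2], 3), ([0, 0, 0, 0, 0, 2, 2, 0], 12),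
  ([0, 0, 0, 0, 2, 0, 0, 0], 28), ([0, 0, 0, 0, 2, 0, 2, 2], 12), ([0, 0, 0, 0, 2, 2, 0, 2], 12),
  ([0, 0, 0, 2, 0, 0, 0, 0], 28), ([0, 0, 0, 2, 0, 0, 0, 2], 6), ([0, 0, 0, 2, 0, 0, 2, 2], 12),
  ([0, 0, 0, 2, 0, 2, 0, 0], 3), ([0, 0, 0, 2, 0, 2, 0, 2], 12), ([0, 0, 0, 2, 0, 2, 2, 0], 12),
  ([0, 0, 0, 2, 2, 0, 0, 2], 12), ([0, 0, 0, 2, 2, 0, 2, 0], 12), ([0, 0, 0, 2, 2, 0, 2, 2], 14),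
  ([0, 0, 2, 0, 0, 0, 0, 0], 28), ([0, 0, 2, 0, 0, 0, 0, 2], 12), ([0, 0, 2, 0, 0, 0, 2, 2], 12),
  ([0, 0, 2, 0, 0, 2, 2, 2], 7), ([0, 0, 2, 0, 2, 0, 0, 0], 3), ([0, 0, 2, 0, 2, 0, 2, 0], 12),
  ([0, 0, 2, 0, 2, 0, 2, 2], 28), ([0, 0, 2, 0, 2, 2, 0, 2], 7), ([0, 0, 2, 2, 0, 0, 0, 2], 12),
  ([0, 0, 2, 2, 0, 0, 2, 0], 12), ([0, 0, 2, 2, 0, 0, 2, 2], 14), ([0, 0, 2, 2, 0, 2, 0, 2], 28),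
  ([0, 0, 2, 2, 0, 2, 2, 0], 14), ([0, 0, 2, 2, 2, 0, 0, 0], 12), ([0, 0, 2, 2, 2, 0, 0, 2], 7),
  ([0, 0, 2, 2, 2, 0, 2, 0], 28), ([0, 0, 2, 2, 2, 0, 2, 2], 12), ([0, 0, 2, 2, 2, 2, 0, 0], 14),
  ([0, 0, 2, 2, 2, 2, 0, 2], 12), ([0, 0, 2, 2, 2, 2, 2, 0], 12), ([0, 2, 0, 0, 0, 0, 0, 0], 28),
  ([0, 2, 0, 0, 0, 0, 2, 2], 12), ([0, 2, 0, 0, 0, 2, 0, 0], 6), ([0, 2, 0, 0, 2, 2, 0, 2], 28),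
  ([0, 2, 0, 0, 2, 2, 2, 2], 12), ([0, 2, 0, 2, 0, 0, 0, 0], 3), ([0, 2, 0, 2, 0, 0, 0, 2], 12),
  ([0, 2, 0, 2, 0, 2, 0, 0], 12), ([0, 2, 0, 2, 0, 2, 0, 2], 7), ([0, 2, 0, 2, 0, 2, 2, 0], 28),
  ([0, 2, 2, 0, 0, 0, 0, 0], 12), ([0, 2, 2, 0, 0, 0, 0, 2], 12), ([0, 2, 2, 0, 0, 2, 2, 2], 12),
  ([0, 2, 2, 0, 2, 0, 2, 0], 28), ([0, 2, 2, 0, 2, 0, 2, 2], 12), ([0, 2, 2, 2, 0, 0, 0, 2], 4),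
  ([0, 2, 2, 2, 0, 0, 2, 0], 7), ([0, 2, 2, 2, 0, 0, 2, 2], 12), ([0, 2, 2, 2, 0, 2, 2, 0], 12),
  ([0, 2, 2, 2, 2, 0, 0, 2], 12), ([0, 2, 2, 2, 2, 0, 2, 0], 12), ([0, 2, 2, 2, 2, 2, 0, 0], 12),
  ([2, 0, 0, 0, 2, 0, 0, 2], 12), ([2, 0, 0, 2, 2, 0, 2, 0], 28), ([2, 0, 0, 2, 2, 0, 2, 2], 12),
  ([2, 0, 0, 2, 2, 2, 2, 0], 12), ([2, 0, 0, 2, 2, 2, 2, 2], 12), ([2, 0, 2, 0, 0, 0, 0, 0], 3),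
  ([2, 0, 2, 0, 0, 0, 0, 2], 12), ([2, 0, 2, 0, 0, 0, 2, 0], 12), ([2, 0, 2, 0, 2, 0, 0, 0], 12),
  ([2, 0, 2, 0, 2, 2, 0, 2], 12), ([2, 0, 2, 2, 0, 2, 2, 0], 12), ([2, 2, 0, 0, 2, 2, 2, 2], 12),
  ([2, 2, 0, 2, 0, 2, 2, 0], 12), ([2, 2, 0, 2, 2, 0, 2, 2], 12), ([2, 2, 2, 0, 0, 2, 0, 0], 7),
  ([2, 2, 2, 0, 2, 2, 0, 2], 12), ([2, 2, 2, 2, 0, 0, 2, 2], 12), ([2, 2, 2, 2, 0, 2, 2, 0], 12),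
  ([0, 0, 0, 0, 0, 0, 0, 0, 0], 8), ([0, 0, 0, 0, 0, 0, 0, 0, 2], 6), ([0, 0, 0, 0, 0, 0, 0, 2, 0], 6),
  ([0, 0, 0, 0, 0, 0, 0, 2, 2], 24), ([0, 0, 0, 0, 0, 0, 2, 0, 2], 24), ([0, 0, 0, 0, 0, 2, 0, 0, 0], 6),
  ([0, 0, 0, 0, 0, 2, 0, 2, 2], 2), ([0, 0, 0, 0, 2, 2, 0, 2, 0], 2), ([0, 0, 0, 0, 2, 2, 0, 2, 2], 24),
  ([0, 0, 0, 2, 0, 0, 0, 0, 0], 6), ([0, 0, 0, 2, 0, 0, 0, 0, 2], 24), ([0, 0, 0, 2, 0, 0, 2, 2, 2], 24),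
  ([0, 0, 0, 2, 0, 2, 0, 0, 0], 24), ([0, 0, 0, 2, 0, 2, 0, 2, 2], 24), ([0, 0, 0, 2, 0, 2, 2, 0, 2], 24),
  ([0, 0, 0, 2, 2, 0, 0, 2, 0], 2), ([0, 0, 0, 2, 2, 0, 0, 2, 2], 24), ([0, 0, 0, 2, 2, 0, 2, 0, 2], 24),
  ([0, 0, 0, 2, 2, 0, 2, 2, 0], 24), ([0, 0, 2, 0, 0, 2, 2, 2, 2], 6), ([0, 0, 2, 0, 2, 0, 0, 0, 2], 2),
  ([0, 0, 2, 0, 2, 0, 2, 0, 2], 24), ([0, 0, 2, 0, 2, 0, 2, 2, 0], 24), ([0, 0, 2, 2, 0, 0, 2, 2, 2], 6),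
  ([0, 0, 2, 2, 0, 2, 0, 2, 0], 24), ([0, 0, 2, 2, 2, 0, 0, 0, 2], 24), ([0, 0, 2, 2, 2, 0, 0, 2, 2], 6),
  ([0, 0, 2, 2, 2, 0, 2, 2, 0], 6), ([0, 0, 2, 2, 2, 2, 0, 2, 0], 6), ([0, 2, 0, 0, 0, 2, 0, 0, 2], 2),
  ([0, 2, 0, 0, 2, 2, 0, 2, 0], 24), ([0, 2, 0, 0, 2, 2, 0, 2, 2], 6), ([0, 2, 0, 0, 2, 2, 2, 2, 0], 6),
  ([0, 2, 0, 0, 2, 2, 2, 2, 2], 8), ([0, 2, 0, 2, 0, 0, 0, 0, 0], 24), ([0, 2, 0, 2, 0, 0, 0, 0, 2], 2),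
  ([0, 2, 0, 2, 0, 0, 0, 2, 0], 2), ([0, 2, 0, 2, 0, 2, 0, 0, 0], 2), ([0, 2, 0, 2, 0, 2, 2, 0, 2], 6),
  ([0, 2, 2, 0, 0, 2, 2, 2, 2], 8), ([0, 2, 2, 0, 2, 0, 2, 2, 0], 6), ([0, 2, 2, 2, 0, 0, 2, 0, 0], 24),
  ([0, 2, 2, 2, 2, 0, 0, 2, 2], 8), ([2, 0, 0, 0, 2, 0, 0, 2, 2], 24), ([2, 0, 2, 0, 2, 0, 0, 0, 2], 24),
  ([2, 2, 0, 2, 0, 2, 2, 0, 2], 8), ([0, 0, 0, 0, 0, 0, 0, 0, 0, 0], 12), ([0, 0, 0, 0, 0, 0, 0, 2, 0, 2], 28),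
  ([0, 0, 0, 2, 0, 0, 2, 2, 2, 2], 28), ([0, 0, 0, 2, 0, 2, 0, 0, 0, 2], 12),
  ([0, 0, 0, 2, 0, 2, 0, 2, 2, 0], 3), ([0, 0, 0, 2, 2, 0, 0, 2, 2, 2], 28), ([0, 0, 0, 2, 2, 0, 2, 0, 2, 0], 3),
  ([0, 0, 2, 0, 0, 2, 2, 2, 2, 0], 28), ([0, 0, 2, 0, 2, 0, 0, 0, 2, 0], 12),
  ([0, 0, 2, 0, 2, 0, 2, 2, 0, 2], 28), ([0, 2, 0, 0, 0, 2, 0, 0, 2, 2], 6),
  ([0, 2, 0, 2, 0, 2, 0, 0, 0, 2], 12), ([0, 2, 2, 0, 2, 0, 2, 2, 0, 2], 3),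
  ([0, 0, 0, 0, 0, 0, 0, 0, 0, 0, 0], 24), ([0, 0, 0, 2, 0, 0, 2, 2, 2, 2, 0], 6),
  ([0, 0, 0, 2, 0, 2, 0, 0, 0, 2, 0], 6), ([0, 0, 0, 0, 0, 0, 0, 0, 0, 0, 0, 0], 2)]

theorem eG8 : enumC γG8 dG8 = true := by decide +kernel

theorem sG8 : solvC [([775628044320400750565994299589], [[], [0], [1], [0, 0, 0], [0, 0, 0, 0, 0]]),
    ([], [[]])] γG8 = true := by decide +kernel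

def γG9 : List ℕ := [775628044317087262219232810115, 775628044281382688121770053798]

def dG9 : List (List ℕ × ℕ) := [
  ([], 1), ([0], 42), ([2], 8), ([0, 0], 21), ([0, 2], 8), ([2, 0], 8), ([2, 2], 4), ([0, 0, 0], 14),
  ([0, 0, 2], 2), ([0, 2, 0], 2), ([0, 2, 2], 21), ([2, 0, 0], 2), ([2, 0, 2], 21), ([2, 2, 0], 21),
  ([2, 2, 2], 8), ([0, 0, 0, 0], 21), ([0, 0, 0, 2], 8), ([0, 0, 2, 0], 8), ([0, 0, 2, 2], 21),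
  ([0, 2, 0, 0], 8), ([0, 2, 0, 2], 4), ([0, 2, 2, 0], 21), ([0, 2, 2, 2], 2), ([2, 0, 0, 0], 8),
  ([2, 0, 0, 2], 21), ([2, 0, 2, 0], 4), ([2, 0, 2, 2], 2), ([2, 2, 0, 0], 21), ([2, 2, 0, 2], 2),
  ([2, 2, 2, 0], 2), ([2, 2, 2, 2], 2), ([0, 0, 0, 0, 0], 42), ([0, 0, 0, 0, 2], 8), ([0, 0, 0, 2, 0], 8),
  ([0, 0, 0, 2, 2], 28), ([0, 0, 2, 0, 0], 8), ([0, 0, 2, 0, 2], 42), ([0, 0, 2, 2, 0], 28),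
  ([0, 0, 2, 2, 2], 8), ([0, 2, 0, 0, 0], 8), ([0, 2, 0, 0, 2], 42), ([0, 2, 0, 2, 0], 42), ([0, 2, 0, 2, 2], 2),
  ([0, 2, 2, 0, 0], 28), ([0, 2, 2, 0, 2], 2), ([0, 2, 2, 2, 0], 8), ([0, 2, 2, 2, 2], 21), ([2, 0, 0, 0, 0], 8),
  ([2, 0, 0, 0, 2], 28), ([2, 0, 2, 0, 0], 42), ([2, 0, 2, 0, 2], 2), ([2, 0, 2, 2, 0], 2),
  ([2, 0, 2, 2, 2], 21), ([2, 2, 0, 2, 0], 2), ([2, 2, 0, 2, 2], 21), ([2, 2, 2, 0, 0], 8),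
  ([2, 2, 2, 0, 2], 21), ([0, 0, 0, 0, 0, 0], 7), ([0, 0, 0, 0, 0, 2], 2), ([0, 0, 0, 0, 2, 0], 2),
  ([0, 0, 0, 0, 2, 2], 42), ([0, 0, 0, 2, 0, 0], 2), ([0, 0, 0, 2, 0, 2], 42), ([0, 0, 0, 2, 2, 0], 42),
  ([0, 0, 0, 2, 2, 2], 8), ([0, 0, 2, 0, 0, 0], 2), ([0, 0, 2, 0, 2, 0], 42), ([0, 0, 2, 0, 2, 2], 2),
  ([0, 0, 2, 2, 0, 0], 42), ([0, 0, 2, 2, 0, 2], 2), ([0, 0, 2, 2, 2, 0], 8), ([0, 0, 2, 2, 2, 2], 42),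
  ([0, 2, 0, 0, 0, 0], 2), ([0, 2, 0, 0, 0, 2], 42), ([0, 2, 0, 2, 0, 0], 42), ([0, 2, 0, 2, 0, 2], 8),
  ([0, 2, 2, 2, 0, 0], 8), ([0, 2, 2, 2, 0, 2], 4), ([2, 0, 0, 0, 0, 0], 2), ([2, 0, 0, 0, 0, 2], 42),
  ([2, 0, 0, 0, 2, 0], 42), ([2, 0, 0, 0, 2, 2], 8), ([2, 0, 2, 0, 2, 0], 8), ([2, 0, 2, 0, 2, 2], 4),
  ([2, 0, 2, 2, 0, 0], 2), ([2, 0, 2, 2, 0, 2], 21), ([2, 2, 0, 2, 0, 0], 2), ([2, 2, 0, 2, 0, 2], 4),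
  ([0, 0, 0, 0, 0, 0, 0], 6), ([0, 0, 0, 0, 0, 0, 2], 8), ([0, 0, 0, 0, 0, 2, 0], 8),
  ([0, 0, 0, 0, 0, 2, 2], 42), ([0, 0, 0, 0, 2, 0, 0], 8), ([0, 0, 0, 0, 2, 0, 2], 28),
  ([0, 0, 0, 0, 2, 2, 0], 42), ([0, 0, 0, 0, 2, 2, 2], 2), ([0, 0, 0, 2, 0, 2, 0], 28),
  ([0, 0, 0, 2, 0, 2, 2], 2), ([0, 0, 0, 2, 2, 0, 0], 42), ([0, 0, 0, 2, 2, 0, 2], 2),
  ([0, 0, 0, 2, 2, 2, 0], 2), ([0, 0, 0, 2, 2, 2, 2], 7), ([0, 0, 2, 0, 0, 0, 0], 8),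
  ([0, 0, 2, 0, 0, 0, 2], 42), ([0, 0, 2, 0, 2, 0, 0], 28), ([0, 0, 2, 0, 2, 0, 2], 8),
  ([0, 2, 0, 0, 0, 0, 0], 8), ([0, 2, 0, 0, 0, 0, 2], 28), ([0, 2, 0, 0, 0, 2, 0], 42),
  ([0, 2, 0, 0, 0, 2, 2], 2), ([2, 0, 0, 0, 0, 0, 0], 8), ([2, 0, 0, 0, 0, 0, 2], 42),
  ([2, 0, 0, 0, 0, 2, 0], 28), ([2, 0, 0, 0, 0, 2, 2], 2), ([2, 0, 0, 0, 2, 0, 0], 42),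
  ([2, 0, 0, 0, 2, 0, 2], 2), ([2, 0, 0, 0, 2, 2, 0], 2), ([2, 0, 0, 0, 2, 2, 2], 7), ([2, 0, 2, 0, 2, 0, 0], 8),
  ([2, 0, 2, 0, 2, 0, 2], 21), ([0, 0, 0, 0, 0, 0, 0, 0], 21), ([0, 0, 0, 0, 0, 0, 0, 2], 8),
  ([0, 0, 0, 0, 0, 0, 2, 0], 8), ([0, 0, 0, 0, 0, 0, 2, 2], 28), ([0, 0, 0, 0, 0, 2, 0, 0], 8),
  ([0, 0, 0, 0, 0, 2, 0, 2], 21), ([0, 0, 0, 0, 0, 2, 2, 0], 28), ([0, 0, 0, 0, 0, 2, 2, 2], 8),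
  ([0, 0, 0, 0, 2, 0, 2, 0], 21), ([0, 0, 0, 0, 2, 0, 2, 2], 2), ([0, 0, 0, 0, 2, 2, 0, 0], 28),
  ([0, 0, 0, 0, 2, 2, 0, 2], 2), ([0, 0, 0, 0, 2, 2, 2, 0], 8), ([0, 0, 0, 0, 2, 2, 2, 2], 42),
  ([0, 0, 0, 2, 0, 2, 0, 0], 21), ([0, 0, 0, 2, 0, 2, 0, 2], 2), ([0, 0, 2, 0, 0, 0, 0, 0], 8),
  ([0, 0, 2, 0, 0, 0, 0, 2], 21), ([0, 2, 0, 0, 0, 0, 0, 0], 8), ([0, 2, 0, 0, 0, 0, 0, 2], 21),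
  ([0, 2, 0, 0, 0, 2, 2, 0], 8), ([0, 2, 0, 0, 0, 2, 2, 2], 42), ([2, 0, 0, 0, 0, 0, 0, 0], 8),
  ([2, 0, 0, 0, 0, 0, 0, 2], 28), ([2, 0, 0, 0, 0, 2, 0, 0], 21), ([2, 0, 0, 0, 0, 2, 0, 2], 2),
  ([2, 0, 0, 0, 0, 2, 2, 0], 2), ([2, 0, 0, 0, 0, 2, 2, 2], 42), ([2, 0, 0, 0, 2, 0, 2, 0], 2),
  ([2, 0, 0, 0, 2, 0, 2, 2], 42), ([2, 0, 0, 0, 2, 2, 0, 0], 8), ([2, 0, 0, 0, 2, 2, 0, 2], 42),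
  ([0, 0, 0, 0, 0, 0, 0, 0, 0], 14), ([0, 0, 0, 0, 0, 0, 0, 0, 2], 2), ([0, 0, 0, 0, 0, 0, 0, 2, 0], 2),
  ([0, 0, 0, 0, 0, 0, 0, 2, 2], 3), ([0, 0, 0, 0, 0, 0, 2, 0, 0], 2), ([0, 0, 0, 0, 0, 0, 2, 0, 2], 21),
  ([0, 0, 0, 0, 0, 0, 2, 2, 0], 3), ([0, 0, 0, 0, 0, 0, 2, 2, 2], 8), ([0, 0, 0, 0, 0, 2, 0, 2, 0], 21),
  ([0, 0, 0, 0, 0, 2, 0, 2, 2], 2), ([0, 0, 0, 0, 0, 2, 2, 0, 0], 3), ([0, 0, 0, 0, 0, 2, 2, 0, 2], 2),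
  ([0, 0, 0, 0, 0, 2, 2, 2, 0], 8), ([0, 0, 0, 0, 0, 2, 2, 2, 2], 21), ([0, 0, 0, 0, 2, 0, 2, 0, 0], 21),
  ([0, 0, 0, 0, 2, 0, 2, 0, 2], 8), ([0, 0, 2, 0, 0, 0, 0, 0, 0], 2), ([0, 0, 2, 0, 0, 0, 0, 0, 2], 14),
  ([0, 2, 0, 0, 0, 0, 0, 0, 0], 2), ([0, 2, 0, 0, 0, 0, 0, 0, 2], 21), ([0, 2, 0, 0, 0, 2, 2, 0, 0], 8),
  ([0, 2, 0, 0, 0, 2, 2, 0, 2], 28), ([2, 0, 0, 0, 0, 0, 0, 0, 0], 2), ([2, 0, 0, 0, 0, 0, 0, 0, 2], 3),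
  ([2, 0, 0, 0, 0, 0, 0, 2, 0], 21), ([2, 0, 0, 0, 0, 0, 0, 2, 2], 8), ([2, 0, 0, 0, 0, 2, 0, 2, 0], 8),
  ([2, 0, 0, 0, 0, 2, 0, 2, 2], 28), ([2, 0, 0, 0, 0, 2, 2, 0, 0], 2), ([2, 0, 0, 0, 0, 2, 2, 0, 2], 42),
  ([2, 0, 0, 0, 2, 0, 2, 0, 0], 2), ([2, 0, 0, 0, 2, 0, 2, 0, 2], 28), ([0, 0, 0, 0, 0, 0, 0, 0, 0, 0], 21),
  ([0, 0, 0, 0, 0, 0, 0, 0, 0, 2], 8), ([0, 0, 0, 0, 0, 0, 0, 0, 2, 0], 8), ([0, 0, 0, 0, 0, 0, 0, 0, 2, 2], 21),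
  ([0, 0, 0, 0, 0, 0, 0, 2, 0, 0], 8), ([0, 0, 0, 0, 0, 0, 0, 2, 0, 2], 28),
  ([0, 0, 0, 0, 0, 0, 0, 2, 2, 0], 21), ([0, 0, 0, 0, 0, 0, 0, 2, 2, 2], 2),
  ([0, 0, 0, 0, 0, 0, 2, 0, 2, 0], 28), ([0, 0, 0, 0, 0, 0, 2, 0, 2, 2], 2),
  ([0, 0, 0, 0, 0, 0, 2, 2, 0, 0], 21), ([0, 0, 0, 0, 0, 0, 2, 2, 0, 2], 2), ([0, 0, 0, 0, 0, 0, 2, 2, 2, 0], 2),
  ([0, 0, 0, 0, 0, 0, 2, 2, 2, 2], 14), ([0, 0, 0, 0, 0, 2, 0, 2, 0, 0], 28),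
  ([0, 0, 0, 0, 0, 2, 0, 2, 0, 2], 8), ([0, 0, 2, 0, 0, 0, 0, 0, 0, 0], 8), ([0, 0, 2, 0, 0, 0, 0, 0, 0, 2], 21),
  ([0, 2, 0, 0, 0, 0, 0, 0, 0, 0], 8), ([0, 2, 0, 0, 0, 0, 0, 0, 0, 2], 28),
  ([0, 2, 0, 0, 0, 0, 0, 0, 2, 0], 21), ([0, 2, 0, 0, 0, 0, 0, 0, 2, 2], 2), ([2, 0, 0, 0, 0, 0, 0, 0, 0, 0], 8),
  ([2, 0, 0, 0, 0, 0, 0, 0, 0, 2], 21), ([2, 0, 0, 0, 0, 0, 0, 0, 2, 0], 28),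
  ([2, 0, 0, 0, 0, 0, 0, 0, 2, 2], 2), ([2, 0, 0, 0, 0, 0, 0, 2, 0, 0], 21), ([2, 0, 0, 0, 0, 0, 0, 2, 0, 2], 2),
  ([2, 0, 0, 0, 0, 0, 0, 2, 2, 0], 2), ([2, 0, 0, 0, 0, 0, 0, 2, 2, 2], 14), ([2, 0, 0, 0, 0, 2, 0, 2, 0, 0], 8),
  ([2, 0, 0, 0, 0, 2, 0, 2, 0, 2], 42), ([0, 0, 0, 0, 0, 0, 0, 0, 0, 0, 0], 42),
  ([0, 0, 0, 0, 0, 0, 0, 0, 0, 0, 2], 8), ([0, 0, 0, 0, 0, 0, 0, 0, 0, 2, 0], 8),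
  ([0, 0, 0, 0, 0, 0, 0, 0, 0, 2, 2], 28), ([0, 0, 0, 0, 0, 0, 0, 0, 2, 0, 0], 8),
  ([0, 0, 0, 0, 0, 0, 0, 0, 2, 0, 2], 6), ([0, 0, 0, 0, 0, 0, 0, 0, 2, 2, 0], 28),
  ([0, 0, 0, 0, 0, 0, 0, 0, 2, 2, 2], 8), ([0, 0, 0, 0, 0, 0, 0, 2, 0, 2, 0], 6),
  ([0, 0, 0, 0, 0, 0, 0, 2, 0, 2, 2], 2), ([0, 0, 0, 0, 0, 0, 0, 2, 2, 0, 0], 28),
  ([0, 0, 0, 0, 0, 0, 0, 2, 2, 0, 2], 2), ([0, 0, 0, 0, 0, 0, 0, 2, 2, 2, 0], 8),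
  ([0, 0, 0, 0, 0, 0, 0, 2, 2, 2, 2], 3), ([0, 0, 0, 0, 0, 0, 2, 0, 2, 0, 0], 6),
  ([0, 0, 0, 0, 0, 0, 2, 0, 2, 0, 2], 2), ([0, 0, 2, 0, 0, 0, 0, 0, 0, 0, 0], 8),
  ([0, 0, 2, 0, 0, 0, 0, 0, 0, 0, 2], 42), ([0, 2, 0, 0, 0, 0, 0, 0, 0, 0, 0], 8),
  ([0, 2, 0, 0, 0, 0, 0, 0, 0, 0, 2], 6), ([0, 2, 0, 0, 0, 0, 0, 0, 2, 2, 0], 8),
  ([0, 2, 0, 0, 0, 0, 0, 0, 2, 2, 2], 21), ([2, 0, 0, 0, 0, 0, 0, 0, 0, 0, 0], 8),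
  ([2, 0, 0, 0, 0, 0, 0, 0, 0, 0, 2], 28), ([2, 0, 0, 0, 0, 0, 0, 0, 2, 0, 0], 42),
  ([2, 0, 0, 0, 0, 0, 0, 0, 2, 0, 2], 2), ([2, 0, 0, 0, 0, 0, 0, 0, 2, 2, 0], 2),
  ([2, 0, 0, 0, 0, 0, 0, 0, 2, 2, 2], 3), ([2, 0, 0, 0, 0, 0, 0, 2, 0, 2, 0], 2),
  ([2, 0, 0, 0, 0, 0, 0, 2, 0, 2, 2], 21), ([2, 0, 0, 0, 0, 0, 0, 2, 2, 0, 0], 8),
  ([2, 0, 0, 0, 0, 0, 0, 2, 2, 0, 2], 3), ([0, 0, 0, 0, 0, 0, 0, 0, 0, 0, 0, 0], 7),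
  ([0, 0, 0, 0, 0, 0, 0, 0, 0, 0, 0, 2], 2), ([0, 0, 0, 0, 0, 0, 0, 0, 0, 0, 2, 0], 2),
  ([0, 0, 0, 0, 0, 0, 0, 0, 0, 0, 2, 2], 42), ([0, 0, 0, 0, 0, 0, 0, 0, 0, 2, 0, 0], 2),
  ([0, 0, 0, 0, 0, 0, 0, 0, 0, 2, 0, 2], 42), ([0, 0, 0, 0, 0, 0, 0, 0, 0, 2, 2, 0], 42),
  ([0, 0, 0, 0, 0, 0, 0, 0, 0, 2, 2, 2], 8), ([0, 0, 0, 0, 0, 0, 0, 0, 2, 0, 2, 0], 42),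
  ([0, 0, 0, 0, 0, 0, 0, 0, 2, 0, 2, 2], 2), ([0, 0, 0, 0, 0, 0, 0, 0, 2, 2, 0, 0], 42),
  ([0, 0, 0, 0, 0, 0, 0, 0, 2, 2, 0, 2], 2), ([0, 0, 0, 0, 0, 0, 0, 0, 2, 2, 2, 0], 8),
  ([0, 0, 0, 0, 0, 0, 0, 0, 2, 2, 2, 2], 42), ([0, 0, 0, 0, 0, 0, 0, 2, 0, 2, 0, 0], 42),
  ([0, 0, 0, 0, 0, 0, 0, 2, 0, 2, 0, 2], 8), ([0, 0, 2, 0, 0, 0, 0, 0, 0, 0, 0, 0], 2),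
  ([0, 0, 2, 0, 0, 0, 0, 0, 0, 0, 0, 2], 7), ([0, 2, 0, 0, 0, 0, 0, 0, 0, 0, 0, 0], 2),
  ([0, 2, 0, 0, 0, 0, 0, 0, 0, 0, 0, 2], 42), ([0, 2, 0, 0, 0, 0, 0, 0, 2, 2, 0, 0], 8),
  ([0, 2, 0, 0, 0, 0, 0, 0, 2, 2, 0, 2], 28), ([2, 0, 0, 0, 0, 0, 0, 0, 0, 0, 0, 0], 2),
  ([2, 0, 0, 0, 0, 0, 0, 0, 0, 0, 0, 2], 42), ([2, 0, 0, 0, 0, 0, 0, 0, 0, 0, 2, 0], 42),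
  ([2, 0, 0, 0, 0, 0, 0, 0, 0, 0, 2, 2], 8), ([2, 0, 0, 0, 0, 0, 0, 0, 2, 0, 2, 0], 8),
  ([2, 0, 0, 0, 0, 0, 0, 0, 2, 0, 2, 2], 28), ([2, 0, 0, 0, 0, 0, 0, 0, 2, 2, 0, 0], 2),
  ([2, 0, 0, 0, 0, 0, 0, 0, 2, 2, 0, 2], 21), ([2, 0, 0, 0, 0, 0, 0, 2, 0, 2, 0, 0], 2),
  ([2, 0, 0, 0, 0, 0, 0, 2, 0, 2, 0, 2], 28), ([0, 0, 0, 0, 0, 0, 0, 0, 0, 0, 0, 0, 0], 42),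
  ([0, 0, 0, 0, 0, 0, 0, 0, 0, 0, 0, 0, 2], 8), ([0, 0, 0, 0, 0, 0, 0, 0, 0, 0, 0, 2, 0], 8),
  ([0, 0, 0, 0, 0, 0, 0, 0, 0, 0, 0, 2, 2], 42), ([0, 0, 0, 0, 0, 0, 0, 0, 0, 0, 2, 0, 0], 8),
  ([0, 0, 0, 0, 0, 0, 0, 0, 0, 0, 2, 0, 2], 28), ([0, 0, 0, 0, 0, 0, 0, 0, 0, 2, 0, 2, 0], 28),
  ([0, 0, 0, 0, 0, 0, 0, 0, 0, 2, 0, 2, 2], 2), ([0, 0, 0, 0, 0, 0, 0, 0, 0, 2, 2, 0, 0], 42),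
  ([0, 0, 0, 0, 0, 0, 0, 0, 0, 2, 2, 0, 2], 2), ([0, 0, 0, 0, 0, 0, 0, 0, 0, 2, 2, 2, 0], 2),
  ([0, 0, 0, 0, 0, 0, 0, 0, 0, 2, 2, 2, 2], 7), ([0, 0, 0, 0, 0, 0, 0, 0, 2, 0, 2, 0, 0], 28),
  ([0, 0, 0, 0, 0, 0, 0, 0, 2, 0, 2, 0, 2], 8), ([0, 0, 2, 0, 0, 0, 0, 0, 0, 0, 0, 0, 0], 8),
  ([0, 0, 2, 0, 0, 0, 0, 0, 0, 0, 0, 0, 2], 6), ([0, 2, 0, 0, 0, 0, 0, 0, 0, 0, 0, 0, 0], 8),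
  ([0, 2, 0, 0, 0, 0, 0, 0, 0, 0, 0, 0, 2], 28), ([0, 2, 0, 0, 0, 0, 0, 0, 0, 0, 0, 2, 0], 6),
  ([0, 2, 0, 0, 0, 0, 0, 0, 0, 0, 0, 2, 2], 2), ([2, 0, 0, 0, 0, 0, 0, 0, 0, 0, 0, 0, 0], 8),
  ([2, 0, 0, 0, 0, 0, 0, 0, 0, 0, 0, 0, 2], 42), ([2, 0, 0, 0, 0, 0, 0, 0, 0, 0, 0, 2, 0], 28),
  ([2, 0, 0, 0, 0, 0, 0, 0, 0, 0, 0, 2, 2], 2), ([2, 0, 0, 0, 0, 0, 0, 0, 0, 0, 2, 0, 0], 6),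
  ([2, 0, 0, 0, 0, 0, 0, 0, 0, 0, 2, 0, 2], 2), ([2, 0, 0, 0, 0, 0, 0, 0, 2, 0, 2, 0, 0], 8),
  ([2, 0, 0, 0, 0, 0, 0, 0, 2, 0, 2, 0, 2], 3), ([0, 0, 0, 0, 0, 0, 0, 0, 0, 0, 0, 0, 2, 0], 8),
  ([0, 0, 0, 0, 0, 0, 0, 0, 0, 0, 0, 0, 2, 2], 28), ([0, 0, 0, 0, 0, 0, 0, 0, 0, 0, 0, 2, 0, 0], 8),
  ([0, 0, 0, 0, 0, 0, 0, 0, 0, 0, 0, 2, 0, 2], 21), ([0, 0, 0, 0, 0, 0, 0, 0, 0, 0, 2, 0, 2, 0], 21),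
  ([0, 0, 0, 0, 0, 0, 0, 0, 0, 0, 2, 0, 2, 2], 2), ([0, 0, 0, 0, 0, 0, 0, 0, 0, 2, 0, 2, 0, 0], 21),
  ([0, 0, 0, 0, 0, 0, 0, 0, 0, 2, 0, 2, 0, 2], 2), ([0, 0, 2, 0, 0, 0, 0, 0, 0, 0, 0, 0, 0, 0], 8),
  ([0, 0, 2, 0, 0, 0, 0, 0, 0, 0, 0, 0, 0, 2], 21), ([0, 2, 0, 0, 0, 0, 0, 0, 0, 0, 0, 0, 0, 0], 8),
  ([0, 2, 0, 0, 0, 0, 0, 0, 0, 0, 0, 0, 0, 2], 21), ([2, 0, 0, 0, 0, 0, 0, 0, 0, 0, 0, 2, 0, 0], 21),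
  ([2, 0, 0, 0, 0, 0, 0, 0, 0, 0, 0, 2, 0, 2], 2), ([2, 0, 0, 0, 0, 0, 0, 0, 0, 0, 2, 0, 2, 0], 2),
  ([2, 0, 0, 0, 0, 0, 0, 0, 0, 0, 2, 0, 2, 2], 42), ([0, 0, 0, 0, 0, 0, 0, 0, 0, 0, 0, 0, 2, 0, 0], 2),
  ([0, 0, 0, 0, 0, 0, 0, 0, 0, 0, 0, 0, 2, 0, 2], 21), ([0, 0, 0, 0, 0, 0, 0, 0, 0, 0, 0, 2, 0, 2, 0], 21),
  ([0, 0, 0, 0, 0, 0, 0, 0, 0, 0, 0, 2, 0, 2, 2], 2), ([0, 0, 0, 0, 0, 0, 0, 0, 0, 0, 2, 0, 2, 0, 0], 21),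
  ([0, 0, 0, 0, 0, 0, 0, 0, 0, 0, 2, 0, 2, 0, 2], 8), ([0, 0, 2, 0, 0, 0, 0, 0, 0, 0, 0, 0, 0, 0, 0], 2),
  ([0, 0, 2, 0, 0, 0, 0, 0, 0, 0, 0, 0, 0, 0, 2], 14), ([2, 0, 0, 0, 0, 0, 0, 0, 0, 0, 0, 2, 0, 2, 0], 8),
  ([2, 0, 0, 0, 0, 0, 0, 0, 0, 0, 0, 2, 0, 2, 2], 28), ([2, 0, 0, 0, 0, 0, 0, 0, 0, 0, 2, 0, 2, 0, 0], 2),
  ([2, 0, 0, 0, 0, 0, 0, 0, 0, 0, 2, 0, 2, 0, 2], 28)]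

theorem eG9 : enumC γG9 dG9 = true := by decide +kernel

theorem sG9 : solvC [([775628040743070172594631148550, 775628041993811906371391652870], [[], [0], [1], [2], [0, 2, 1], [0, 3, 1], [1, 3, 0]]),
    ([775628043248225404048478668832, 775628044209649597423892400160], [[], [0], [1], [2], [0, 2], [0, 3]]),
    ([775628041958215626269778872352], [[], [0]]),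
    ([], [[]])] γG9 = true := by decide +kernel

end Cfsg.Agent.OT
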